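import Cfsg.Agent.R2.H4.Mon.GeoConj
import Cfsg.Agent.H848.TenG

/-!
# The ark of a frame: `cent_le`, `unique`, `pt_mem`, `TypeFact`
-/

set_option autoImplicit false
set_option linter.unusedSectionVars false

open Cfsg

namespace Cfsg.Agent.R2.H4.Mon.ArkStd

open Cfsg.Agent.SporadicA.Co1Simple (allOne)
open Cfsg.Agent.CoOneType.SignFacts
open Cfsg.Agent.CoOneType.CoOneE (pr pr_surjective E mem_E isConj_of_wt wt_of_isConj)
open Cfsg.Agent.MonsterU.Lam2 (L2 IsType cl neg_eq)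
open Cfsg.Agent.MonsterU.CoFrameL2
open Cfsg.Agent.MonsterU.AmalGen (pre mem_pre EE pi_mem_F_iff pre_W1 z_mem_pre)
open Cfsg.Agent.MonsterU.AmalInf (AA mem_AA CA mem_CA Einf Eτ mem_EE_iff exists_CA_of_E)
open Cfsg.Agent.MonsterU.Ch
open Cfsg.Agent.H848.Oct (eps eps_mul_eps W16 W8 mem_W16 CO mem_CO perp_W8)
open Cfsg.Agent.H848.Dual (mem_perp)
open Cfsg.Agent.H848.TenB (T mem_T pre_W8_le)
open Cfsg.Agent.R2.H4.Mon.KeyGrp
open Cfsg.Agent.R2.H4.Mon.Frm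
open Cfsg.Agent.R2.H4.Mon.GeoInst
open Cfsg.Agent.R2.H4.Mon.GeoConj
open Cfsg.Agent.R2.M7
open Cfsg.Agent.R2.M7.Geo (cj CC)
open Cfsg.Spor (Co1)

/-- products of commuting subgroups -/
theorem mem_sup_of_comm {G : Type*} [Group G] {A B : Subgroup G} (hc : ∀ a ∈ A, ∀ b ∈ B, a * b = b * a) {x : G} :
    x ∈ A ⊔ B ↔ ∃ a ∈ A, ∃ b ∈ B, x = a * b := by
  constructor
  · intro hx
    have h1 : A ⊔ B ≤
        { carrier := {x | ∃ a ∈ A, ∃ b ∈ B, x = a * b}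
          one_mem' := ⟨1, A.one_mem, 1, B.one_mem, (mul_one 1).symm⟩
          mul_mem' := by
            rintro _ _ ⟨a, ha, b, hb, rfl⟩ ⟨a', ha', b', hb', rfl⟩
            refine ⟨a * a', A.mul_mem ha ha', b * b', B.mul_mem hb hb', ?_⟩
            calc a * b * (a' * b') = a * (b * a') * b' := by group
              _ = a * (a' * b) * b' := by rw [hc a' ha' b hb]
              _ = a * a' * (b * b') := by group
          inv_mem' := by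
            rintro _ ⟨a, ha, b, hb, rfl⟩
            refine ⟨a⁻¹, A.inv_mem ha, b⁻¹, B.inv_mem hb, ?_⟩
            rw [mul_inv_rev, hc a⁻¹ (A.inv_mem ha) b⁻¹ (B.inv_mem hb)] } := by
      refine sup_le (fun a ha => ⟨a, ha, 1, B.one_mem, (mul_one a).symm⟩)
        (fun b hb => ⟨1, A.one_mem, b, hb, (one_mul b).symm⟩)
    exact h1 hx
  · rintro ⟨a, ha, b, hb, rfl⟩
    exact Subgroup.mul_mem_sup ha hb

variable {G : Type*} [Group G] {Q : Subgroup G} {z : G} {eta : G → L2}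
  {pi : Subgroup.centralizer ({z} : Set G) →* Co1} {y τ : G} {o : golayCode}

/-- the elements of `KK` -/
theorem mem_KK {Γ : Geo G} {O : Subgroup G} {v x : G} :
    x ∈ Γ.KK O v ↔ ∃ q ∈ CC O, q ∈ Γ.QQ v ∧ ∃ t ∈ O, x = q * t := by
  unfold Geo.KK
  rw [mem_sup_of_comm]
  · constructor
    · rintro ⟨a, ha, b, hb, rfl⟩
      exact ⟨a, ha.1, ha.2, b, hb, rfl⟩
    · rintro ⟨a, ha, ha', b, hb, rfl⟩
      exact ⟨a, ⟨ha, ha'⟩, b, hb, rfl⟩
  · intro a ha b hb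
    exact ((mem_CC.1 ha.1) b hb).symm

/-! ### The standard ark -/

theorem CC_T_Q (h : Chart Q z eta pi) {x : G} (hx : x ∈ Q) : x ∈ CC (T h o) ↔ eta x ∈ W16 o := by
  constructor
  · intro hc
    rw [← perp_W8, mem_perp]
    intro u hu
    obtain ⟨p, hp, rfl⟩ := h.eta_surj u
    exact (h.comm_iff hx hp).1 (mem_CC.1 hc p (pre_W8_le h ⟨hp, hu⟩)).symm
  · intro hx'
    exact Cfsg.Agent.H848.TenG.X_le_C h ⟨hx, hx'⟩

section

variable (Fo : Cfsg.Agent.H848.TenA.Facts o) (F : Fr Q z eta pi y τ)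
include Fo F

theorem cent_of_KK {t : G} (ht : t ∈ (geo F.ch o).KK (T F.ch o) z) : t ∈ Subgroup.centralizer ({z} : Set G) := by
  obtain ⟨q, hq, hqQ, s, hs, rfl⟩ := mem_KK.1 ht
  rw [geo_QQ, F.QQ_z] at hqQ
  rw [Subgroup.mem_centralizer_singleton_iff]
  have h1 := F.ch.large.comm_z q hqQ
  have h2 := Cfsg.Agent.H848.TenB.T_z F.ch hs
  calc q * s * z = q * (s * z) := by group
    _ = q * z * s := by rw [h2]; group
    _ = z * (q * s) := by rw [h1]; group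

/-- the image of an element of `KK` -/
theorem pi_KK {t : G} (ht : t ∈ (geo F.ch o).KK (T F.ch o) z) (hc : t ∈ Subgroup.centralizer ({z} : Set G)) :
    pi ⟨t, hc⟩ = 1 ∨ pi ⟨t, hc⟩ = eps o := by
  obtain ⟨q, hq, hqQ, s, hs, rfl⟩ := mem_KK.1 ht
  rw [geo_QQ, F.QQ_z] at hqQ
  have hsz : s ∈ Subgroup.centralizer ({z} : Set G) :=
    Subgroup.mem_centralizer_singleton_iff.2 (Cfsg.Agent.H848.TenB.T_z F.ch hs)
  have hqz : q ∈ Subgroup.centralizer ({z} : Set G) :=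
    Subgroup.mem_centralizer_singleton_iff.2 (F.ch.large.comm_z q hqQ)
  have h1 : pi ⟨q * s, hc⟩ = pi ⟨q, hqz⟩ * pi ⟨s, hsz⟩ := by rw [← map_mul]; rfl
  rw [h1, (F.ch.pi_eq_one ⟨q, hqz⟩).2 hqQ, one_mul]
  exact Cfsg.Agent.H848.TenB.pi_T F.ch Fo (c := ⟨s, hsz⟩) hs

theorem pi_KK' {t : G} (ht : t ∈ (geo F.ch o).KK (T F.ch o) z) (htQ : t ∉ Q)
    (hc : t ∈ Subgroup.centralizer ({z} : Set G)) : pi ⟨t, hc⟩ = eps o :=
  (pi_KK Fo F ht hc).resolve_left fun h1 => htQ ((F.ch.pi_eq_one _).1 h1)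

/-- elements of `Q` commuting with an element over the sign change -/
theorem mem_CC_of_comm {t x : G} (hc : t ∈ Subgroup.centralizer ({z} : Set G)) (hpi : pi ⟨t, hc⟩ = eps o)
    (hx : x ∈ Q) (hxt : x * t = t * x) : x ∈ CC (T F.ch o) := by
  rw [CC_T_Q F.ch hx, mem_W16, ← hpi, ← F.ch.eta_conj ⟨t, hc⟩ x hx]
  congr 1
  show t * x * t⁻¹ = x
  rw [← hxt]; group

section

variable (hE : TE F.ch τ)
include hE

theorem z_mem_O : z ∈ T F.ch o := pre_W8_le F.ch (z_mem_pre F.ch _)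

/-- an involution over the sign change -/
theorem mem_KK_of_pi [Finite G] {a : Subgroup.centralizer ({z} : Set G)} (ha : (a : G) * a = 1)
    (hpi : pi a = eps o) : (a : G) ∈ (geo F.ch o).KK (T F.ch o) z := by
  obtain ⟨t, ht, htC, htQ, -⟩ := Cfsg.Agent.H848.TenB.exists_t0 F.ch Fo F.hyQ F.hy F.τz F.τy hE
  have ht2 : t * t = 1 := Cfsg.Agent.H848.TenB.sq_T F.ch Fo F.hyQ F.hy F.τz F.τy hE ht
  have htz : t ∈ Subgroup.centralizer ({z} : Set G) :=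
    Subgroup.mem_centralizer_singleton_iff.2 (Cfsg.Agent.H848.TenB.T_z F.ch ht)
  have hpt : pi ⟨t, htz⟩ = eps o :=
    (Cfsg.Agent.H848.TenB.pi_T F.ch Fo (c := ⟨t, htz⟩) ht).resolve_left fun h1 => htQ ((F.ch.pi_eq_one _).1 h1)
  have ht' : t⁻¹ = t := inv_eq_of_mul_eq_one_left ht2
  have hq : (a : G) * t ∈ Q := by
    have h1 : pi (a * ⟨t, htz⟩) = 1 := by rw [map_mul, hpi, hpt, eps_mul_eps]
    exact (F.ch.pi_eq_one _).1 h1
  set q := (a : G) * t with hqdef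
  have haq : (a : G) = q * t := by rw [hqdef, mul_assoc, ht2, mul_one]
  rw [mem_KK]
  refine ⟨q, ?_, by rw [geo_QQ, F.QQ_z]; exact hq, t, ht, haq⟩
  rw [CC_T_Q F.ch hq, mem_W16, ← hpt, ← F.ch.eta_conj ⟨t, htz⟩ q hq]
  have h1 : t * q * t⁻¹ = q⁻¹ := by
    have h2 : q * t * (q * t) = 1 := by rw [← haq]; exact ha
    rw [ht']
    calc t * q * t = q⁻¹ * (q * t * (q * t)) := by group
      _ = q⁻¹ := by rw [h2, mul_one]
  show eta (t * q * t⁻¹) = eta q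
  rw [h1, F.ch.eta_inv hq]

end

end

/-! ### The facts -/

/-- **`cent_le`** -/
theorem cent_le [Finite G] (Fo : Cfsg.Agent.H848.TenA.Facts o) (F : Fr Q z eta pi y τ) (hE : TE F.ch τ) :
    ∀ O ∈ (geo F.ch o).Ark, ∀ v ∈ O, v ∈ (geo F.ch o).Pt → ∀ t ∈ (geo F.ch o).KK O v, t ∉ (geo F.ch o).QQ v →
      ∀ x ∈ (geo F.ch o).QQ v, x * t = t * x → x ∈ CC O := by
  intro O hO v hv hvP t ht htQ x hx hxt
  obtain ⟨k, rfl, rfl⟩ := std1 Fo F hE hO hv hvP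
  obtain ⟨t', rfl⟩ : ∃ t', t = k * t' * k⁻¹ := ⟨k⁻¹ * t * k, by group⟩
  obtain ⟨x', rfl⟩ : ∃ x', x = k * x' * k⁻¹ := ⟨k⁻¹ * x * k, by group⟩
  rw [KK_conj_iff] at ht
  rw [QQ_conj_iff, geo_QQ, F.QQ_z] at htQ hx
  rw [CC_conj_iff]
  have hc := cent_of_KK Fo F ht
  apply mem_CC_of_comm Fo F hc (pi_KK' Fo F ht htQ hc) hx
  apply conj_injective k
  show k * (x' * t') * k⁻¹ = k * (t' * x') * k⁻¹
  calc k * (x' * t') * k⁻¹ = k * x' * k⁻¹ * (k * t' * k⁻¹) := by group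
    _ = k * t' * k⁻¹ * (k * x' * k⁻¹) := hxt
    _ = k * (t' * x') * k⁻¹ := by group

/-- uniqueness, standard position -/
theorem unique_std [Finite G] (Fo : Cfsg.Agent.H848.TenA.Facts o) (F : Fr Q z eta pi y τ) (hE : TE F.ch τ)
    {O' : Subgroup G} (hO' : O' ∈ (geo F.ch o).Ark) (hz : z ∈ O') {a : G}
    (ha : a ∈ (geo F.ch o).KK (T F.ch o) z) (ha' : a ∈ (geo F.ch o).KK O' z) (haQ : a ∉ Q) : O' = T F.ch o := by
  obtain ⟨k, hk, rfl⟩ := std1 Fo F hE hO' hz (TwoB.self z)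
  have hkz : k ∈ Subgroup.centralizer ({z} : Set G) := by
    rw [Subgroup.mem_centralizer_singleton_iff]
    exact mul_inv_eq_iff_eq_mul.1 hk
  have hac := cent_of_KK Fo F ha
  have hpa := pi_KK' Fo F ha haQ hac
  obtain ⟨b, rfl⟩ : ∃ b, a = k * b * k⁻¹ := ⟨k⁻¹ * a * k, by group⟩
  have hb : b ∈ (geo F.ch o).KK (T F.ch o) z := by
    rw [← KK_conj_iff (k := k), hk]; exact ha'
  have hbc := cent_of_KK Fo F hb
  have hbQ : b ∉ Q := by
    intro h1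
    apply haQ
    exact F.ch.large.conj_mem k (Subgroup.mem_centralizer_singleton_iff.1 hkz) _ h1
  have hpb := pi_KK' Fo F hb hbQ hbc
  have h1 : pi ⟨k * b * k⁻¹, hac⟩ = pi ⟨k, hkz⟩ * pi ⟨b, hbc⟩ * (pi ⟨k, hkz⟩)⁻¹ := by
    rw [← map_inv, ← map_mul, ← map_mul]; rfl
  rw [hpa, hpb] at h1
  have h2 : pi ⟨k, hkz⟩ ∈ CO o := by
    rw [mem_CO]
    exact (mul_inv_eq_iff_eq_mul.1 h1.symm)
  apply cj_of_norm Fo F hE
  exact (Cfsg.Agent.H848.TenC.mem_N_iff F.ch Fo F.hyQ F.hy F.τz F.τy hE ⟨k, hkz⟩).2 h2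

/-- **`unique`** -/
theorem unique [Finite G] (Fo : Cfsg.Agent.H848.TenA.Facts o) (F : Fr Q z eta pi y τ) (hE : TE F.ch τ) :
    ∀ O ∈ (geo F.ch o).Ark, ∀ O' ∈ (geo F.ch o).Ark, ∀ c ∈ (geo F.ch o).Pt, c ∈ O → c ∈ O' →
      ∀ a ∈ (geo F.ch o).KK O c, a ∈ (geo F.ch o).KK O' c → a ∉ (geo F.ch o).QQ c → O = O' := by
  intro O hO O' hO' c hcP hc hc' a ha ha' haQ
  obtain ⟨k, rfl, rfl⟩ := std1 Fo F hE hO hc hcP
  obtain ⟨b, rfl⟩ : ∃ b, a = k * b * k⁻¹ := ⟨k⁻¹ * a * k, by group⟩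
  rw [KK_conj_iff] at ha
  rw [QQ_conj_iff, geo_QQ, F.QQ_z] at haQ
  obtain ⟨O₁, rfl⟩ : ∃ O₁, O' = cj k O₁ := ⟨cj k⁻¹ O', by rw [cj_cj, mul_inv_cancel, cj_one]⟩
  rw [KK_conj_iff] at ha'
  rw [ark_conj_iff] at hO'
  rw [conj_mem_cj] at hc'
  rw [unique_std Fo F hE hO' hc' ha ha' haQ]

/-- the ark of a conjugate sign change -/
theorem T_eq_cj (h : Chart Q z eta pi) {k : G} (hkz : k ∈ Subgroup.centralizer ({z} : Set G)) {o o' : golayCode}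
    (hk : pi ⟨k, hkz⟩ * eps o * (pi ⟨k, hkz⟩)⁻¹ = eps o') : cj k (T h o) = T h o' := by
  have h1 := Tk_conj_cent h ⟨k, hkz⟩ (eps o)
  rw [hk] at h1
  exact h1

/-- **`pt_mem`** -/
theorem pt_mem [Finite G] (ho : wt o = 8) (F : Fr Q z eta pi y τ) :
    ∀ O ∈ (geo F.ch o).Ark, ∀ c ∈ O, c ∈ (geo F.ch o).Pt → ∀ a ∈ (geo F.ch o).KK O c, a ∉ (geo F.ch o).QQ c →
      ∀ v ∈ (geo F.ch o).Pt, v ∈ (geo F.ch o).QQ c → a ∈ (geo F.ch o).QQ v → v ∈ O := by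
  intro O hO c hc hcP a ha haQ v hvP hvc hav
  have hne : v ≠ c := by
    rintro rfl
    exact haQ hav
  obtain ⟨eta', pi', τ', F', hS, hE'⟩ := exists_frame_at F hcP hvP hvc hne
  have hg := geo_eq_of_same hS o
  rw [← hg] at hO hcP ha haQ hav
  have Fo := facts ho
  obtain ⟨k, hk, rfl⟩ := std1 Fo F' hE' hO hc hcP
  have hkz : k ∈ Subgroup.centralizer ({c} : Set G) := by
    rw [Subgroup.mem_centralizer_singleton_iff]
    exact mul_inv_eq_iff_eq_mul.1 hk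
  obtain ⟨b, rfl⟩ : ∃ b, a = k * b * k⁻¹ := ⟨k⁻¹ * a * k, by group⟩
  have hb : b ∈ (geo F'.ch o).KK (T F'.ch o) c := by
    rw [← KK_conj_iff (k := k), hk]; exact ha
  have hbc := cent_of_KK Fo F' hb
  have hbQ : b ∉ QQ Q z c := by
    intro h1
    apply haQ
    rw [geo_QQ, F'.QQ_z]
    exact F'.ch.large.conj_mem k (Subgroup.mem_centralizer_singleton_iff.1 hkz) _ h1
  have hpb := pi_KK' Fo F' hb hbQ hbc
  -- the image of `a` is a sign change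
  have hac : k * b * k⁻¹ ∈ Subgroup.centralizer ({c} : Set G) :=
    Subgroup.mul_mem _ (Subgroup.mul_mem _ hkz hbc) (Subgroup.inv_mem _ hkz)
  have haA : k * b * k⁻¹ ∈ AA (QQ Q z c) τ' := by
    rw [← F'.QQ_y]; exact hav
  obtain ⟨o', ho'⟩ := Cfsg.Agent.MonsterU.AmalInf.pi_CA_mem_E F'.ch F'.hyQ F'.hy F'.τz F'.τy ⟨haA, hac⟩ hac
  have h1 : pi' ⟨k * b * k⁻¹, hac⟩ = pi' ⟨k, hkz⟩ * pi' ⟨b, hbc⟩ * (pi' ⟨k, hkz⟩)⁻¹ := by
    rw [← map_inv, ← map_mul, ← map_mul]; rfl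
  rw [ho', hpb] at h1
  have h2 : eps o' = pi' ⟨k, hkz⟩ * eps o * (pi' ⟨k, hkz⟩)⁻¹ := h1
  have h3 : IsConj (eps o) (eps o') := isConj_iff.2 ⟨_, h2.symm⟩
  obtain ⟨o₂, ho₂, he⟩ : ∃ o₂, wt o₂ = 8 ∧ eps o₂ = eps o' := by
    rcases wt_of_isConj o o' h3 with h4 | h4
    · exact ⟨o', by omega, rfl⟩
    · refine ⟨o' + allOne, ?_, eps_add_allOne o'⟩
      have := wt_add_allOne o'
      omega
  rw [T_eq_cj F'.ch hkz (o' := o₂) (by rw [he]; exact h2.symm)]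
  exact GeoInst.y_mem_T (facts ho₂) F' hE'

/-- **`TypeFact`** -/
theorem typeFact [Finite G] (ho : wt o = 8) (F : Fr Q z eta pi y τ) : (geo F.ch o).TypeFact := by
  intro c hcP a hac haQ ha2
  obtain ⟨x, hxP, hxc, hne⟩ := Fr.point F hcP
  obtain ⟨eta', pi', τ', F', hS, hE'⟩ := exists_frame_at F hcP hxP hxc hne
  have hg := geo_eq_of_same hS o
  rw [← hg] at haQ hcP ⊢
  rw [geo_QQ, F'.QQ_z] at haQ
  have hac' : a ∈ Subgroup.centralizer ({c} : Set G) := Subgroup.mem_centralizer_singleton_iff.2 hac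
  rcases Types.types F' (a := ⟨a, hac'⟩) ha2 haQ with hO | hD
  · right
    obtain ⟨o₂, ho₂, hcon⟩ := hO
    have h1 : IsConj (eps o) (pi' ⟨a, hac'⟩) :=
      (isConj_of_wt o o₂ (Or.inl ⟨ho, ho₂⟩)).trans hcon.symm
    rw [isConj_iff] at h1
    obtain ⟨s, hs⟩ := h1
    obtain ⟨k, rfl⟩ := F'.ch.pi_surj s
    refine ⟨cj (k : G) (T F'.ch o), ⟨k, rfl⟩, ?_, ?_⟩
    · have hkc := Subgroup.mem_centralizer_singleton_iff.1 k.2
      have h2 := conj_mem_cj (g := (k : G)) (x := c) (O := T F'.ch o)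
      have e : (k : G) * c * (k : G)⁻¹ = c := by rw [hkc]; group
      rw [e] at h2
      exact h2.2 (pre_W8_le F'.ch (z_mem_pre F'.ch _))
    · have hkc := Subgroup.mem_centralizer_singleton_iff.1 k.2
      have h2 := mem_KK_of_pi (facts ho) F' hE' (a := k⁻¹ * ⟨a, hac'⟩ * k) (by
        show (k : G)⁻¹ * a * k * ((k : G)⁻¹ * a * k) = 1
        calc (k : G)⁻¹ * a * k * ((k : G)⁻¹ * a * k) = (k : G)⁻¹ * (a * a) * k := by group
          _ = 1 := by rw [ha2]; group) (by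
        rw [map_mul, map_mul, map_inv, ← hs]; group)
      have h3 : (k : G)⁻¹ * a * k ∈ (geo F'.ch o).KK (T F'.ch o) c := h2
      rw [← KK_conj_iff (k := (k : G))] at h3
      have e : (k : G) * c * (k : G)⁻¹ = c := by rw [hkc]; group
      have e2 : (k : G) * ((k : G)⁻¹ * a * k) * (k : G)⁻¹ = a := by group
      rwa [e, e2] at h3
  · left
    obtain ⟨d, hdB, hdQ, -, had, hcent, hin⟩ := Types.type_D F' (a := ⟨a, hac'⟩) ha2 hD
    refine ⟨d, hdB, ?_, had, fun g h1 h2 => hcent g h1 h2, fun s hs h1 h2 => ?_⟩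
    · rw [geo_QQ, F'.QQ_z]; exact hdQ
    · rw [geo_QQ, F'.QQ_z] at hs
      exact hin s hs h1 h2

end Cfsg.Agent.R2.H4.Mon.ArkStd
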