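import Cfsg.Agent.R2.H4.Mon.IvLink
import Cfsg.Agent.R2.H20.Mon.ArkA

/-!
# The set `Vs O s` is a totally singular subgroup
-/

set_option autoImplicit false
set_option linter.unusedSectionVars false

open Cfsg

namespace Cfsg.Agent.R2.H4.Mon.VsGrp

open Cfsg.Agent.MonsterU.Lam2 (L2 IsType cl cl_surjective neg_eq bf bf_cl)
open Cfsg.Agent.CoOneType.SignFacts
open Cfsg.Agent.MonsterU.CoFrameL2
open Cfsg.Agent.MonsterU.AmalGen (pre mem_pre EE)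
open Cfsg.Agent.MonsterU.AmalInf (AA mem_AA)
open Cfsg.Agent.MonsterU.Ch
open Cfsg.Agent.H848.Oct (eps W16 W8)
open Cfsg.Agent.H848.TenB (T pre_W8_le)
open Cfsg.Agent.R2.H4.Mon.Frm
open Cfsg.Agent.R2.H4.Mon.GeoInst
open Cfsg.Agent.R2.H4.Mon.GeoConj
open Cfsg.Agent.R2.H4.Mon.ArkStd
open Cfsg.Agent.R2.H4.Mon.LStar
open Cfsg.Agent.R2.H4.Mon.IvLink
open Cfsg.Agent.R2.M7
open Cfsg.Agent.R2.M7.Geo (cj CC)
open Cfsg.Spor (Co1)

variable {G : Type*} [Group G] {Q : Subgroup G} {z : G} {eta : G → L2}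
  {pi : Subgroup.centralizer ({z} : Set G) →* Co1} {y τ : G} {o : golayCode}

theorem le_KK {Γ : Geo G} {O : Subgroup G} {v : G} : O ≤ Γ.KK O v := le_sup_right

/-- the intersection of `KK z` and `KK y` -/
theorem KK_zy [Finite G] (ho : wt o = 8) (F : Fr Q z eta pi y τ) (hE : TE F.ch τ) {s : G}
    (hz : s ∈ (geo F.ch o).KK (T F.ch o) z) (hy : s ∈ (geo F.ch o).KK (T F.ch o) y) :
    ∃ e ∈ CC (T F.ch o), e ∈ EE F.ch ∧ ∃ t ∈ T F.ch o, s = e * t := by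
  have hTC := T_le_CC (facts ho) F hE
  obtain ⟨q, hq, hqQ, t, ht, rfl⟩ := mem_KK.1 hz
  rw [geo_QQ, F.QQ_z] at hqQ
  have hqy : q ∈ (geo F.ch o).KK (T F.ch o) y := by
    have h1 := Subgroup.mul_mem _ hy (le_KK (Subgroup.inv_mem _ ht) : t⁻¹ ∈ (geo F.ch o).KK (T F.ch o) y)
    rwa [mul_inv_cancel_right] at h1
  rw [mem_KK_y ho F hE hq hqQ] at hqy
  obtain ⟨a, ha, b, hb, hab⟩ := AddSubgroup.mem_sup.1 hqy
  obtain ⟨p, hp, hpb⟩ := F.ch.eta_surj b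
  have hpT : p ∈ T F.ch o := pre_W8_le F.ch ⟨hp, by rw [hpb]; exact hb⟩
  refine ⟨q * p, Subgroup.mul_mem _ hq (hTC hpT), ⟨Q.mul_mem hqQ hp, ?_⟩, p⁻¹ * t,
    Subgroup.mul_mem _ (Subgroup.inv_mem _ hpT) ht, by group⟩
  show eta (q * p) ∈ W12
  rw [F.ch.eta_mul q hqQ p hp, ← hab, hpb, add_assoc]
  have e : b + b = 0 := by
    have := sub_self b
    rwa [sub_eq_add_neg, neg_eq] at this
  rw [e, add_zero]
  exact ha.1

/-- **(d)** collinear points -/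
theorem KK_inf [Finite G] (ho : wt o = 8) (F : Fr Q z eta pi y τ) (hE : TE F.ch τ) :
    ∀ O ∈ (geo F.ch o).Ark, ∀ v ∈ O, v ∈ (geo F.ch o).Pt → ∀ w ∈ O, w ∈ (geo F.ch o).Pt → v ≠ w →
      w ∈ (geo F.ch o).QQ v → ∀ s, s ∈ (geo F.ch o).KK O v → s ∈ (geo F.ch o).KK O w →
      s ∈ (geo F.ch o).KK O (v * w) := by
  intro O hO v hv hvP w hw hwP hne hwv s hsv hsw
  obtain ⟨k, rfl, rfl, rfl⟩ := std2 (facts ho) F hE hO hv hvP hw hwP hwv hne.symm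
  obtain ⟨s, rfl⟩ : ∃ s', s = k * s' * k⁻¹ := ⟨k⁻¹ * s * k, by group⟩
  rw [KK_conj_iff] at hsv hsw
  have e1 : k * z * k⁻¹ * (k * y * k⁻¹) = k * (z * y) * k⁻¹ := by group
  rw [e1, KK_conj_iff]
  obtain ⟨e, he, heE, t, ht, rfl⟩ := KK_zy ho F hE hsv hsw
  rw [mem_KK]
  exact ⟨e, he, (Types.EE_le F heE).2, t, ht, rfl⟩

/-- **(e)** opposite points -/
theorem KK_opp [Finite G] (Fo : Cfsg.Agent.H848.TenA.Facts o) (F : Fr Q z eta pi y τ) (hE : TE F.ch τ) :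
    ∀ O ∈ (geo F.ch o).Ark, ∀ v ∈ O, v ∈ (geo F.ch o).Pt → ∀ w ∈ O, w ∈ (geo F.ch o).Pt →
      w ∉ (geo F.ch o).QQ v → ∀ s, s ∈ (geo F.ch o).KK O v → s ∈ (geo F.ch o).KK O w → s ∈ O := by
  intro O hO v hv hvP w hw hwP hwv s hsv hsw
  obtain ⟨q, hq, hqv, a, ha, rfl⟩ := mem_KK.1 hsv
  obtain ⟨r, hr, hrw, b, hb, hab⟩ := mem_KK.1 hsw
  have comm := Cfsg.Agent.R2.H20.Mon.ArkA.ark_comm Fo F hE O hO
  have sq := Cfsg.Agent.R2.H20.Mon.ArkA.ark_sq Fo F hE O hO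
  have bmul := Cfsg.Agent.R2.H20.Mon.ArkA.bet_mul Fo F hE O hO
  have biff := Cfsg.Agent.R2.H20.Mon.ArkA.bet_iff Fo F hE O hO v hv hvP
  have z2 : ∀ a : ZMod 2, a ≠ 0 → a = 1 := by decide
  have hOC : O ≤ CC O := fun x hx => mem_CC.2 fun a ha => comm a ha x hx
  have hww : w ∈ (geo F.ch o).QQ w := self_mem_QQ F.ch.large hwP
  have hwO : w⁻¹ = w := inv_eq_of_mul_eq_one_left (sq w hw)
  -- the decomposition of `b * a⁻¹`
  obtain ⟨c₁, hc₁, hc₁v, c₂, hc₂, hc₂w, hc⟩ : ∃ c₁ ∈ O, c₁ ∈ (geo F.ch o).QQ v ∧ ∃ c₂ ∈ O, c₂ ∈ (geo F.ch o).QQ w ∧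
      b * a⁻¹ = c₂ * c₁ := by
    have hc : b * a⁻¹ ∈ O := O.mul_mem hb (O.inv_mem ha)
    by_cases h0 : (geo F.ch o).bet (b * a⁻¹) v = 0
    · exact ⟨_, hc, (biff _ hc).2 h0, 1, O.one_mem, Subgroup.one_mem _, (one_mul _).symm⟩
    · refine ⟨w * (b * a⁻¹), O.mul_mem hw hc, (biff _ (O.mul_mem hw hc)).2 ?_, w, hw, hww, ?_⟩
      · rw [bmul w hw _ hc v hv, z2 _ h0, z2 _ fun h => hwv ((biff w hw).2 h)]
        decide
      · rw [← mul_assoc, sq w hw, one_mul]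
  -- `q = r (b a⁻¹)`
  have hqr : q = r * (b * a⁻¹) := by
    calc q = q * a * a⁻¹ := by group
      _ = r * (b * a⁻¹) := by rw [hab]; group
  have hx1 : q * c₁⁻¹ = r * c₂ := by rw [hqr, hc]; group
  have hxO : q * c₁⁻¹ ∈ O := by
    refine Cfsg.Agent.R2.H20.Mon.ArkA.opp_inf Fo F hE O hO v hv hvP w hw hwP hwv _
      (Subgroup.mul_mem _ hq (Subgroup.inv_mem _ (hOC hc₁))) (Subgroup.mul_mem _ hqv (Subgroup.inv_mem _ hc₁v)) ?_
    rw [hx1]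
    exact Subgroup.mul_mem _ hrw hc₂w
  have e : q * a = q * c₁⁻¹ * (c₁ * a) := by group
  rw [e]
  exact O.mul_mem hxO (O.mul_mem hc₁ ha)

/-- **(f)** the points of `Vs` -/
theorem exists_Vs [Finite G] (ho : wt o = 8) (F : Fr Q z eta pi y τ) (hE : TE F.ch τ) {O : Subgroup G}
    (hO : O ∈ (geo F.ch o).Ark) {s : G} (hs : s ∉ O) :
    ∃ S : Subgroup G, (S : Set G) = (geo F.ch o).Vs O s ∧ S ≤ O ∧ (∀ x ∈ S, x ≠ 1 → x ∈ (geo F.ch o).Pt) ∧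
      ∀ x ∈ S, x ≠ 1 → ∀ w ∈ S, w ∈ (geo F.ch o).QQ x := by
  have Fo := facts ho
  have B := basic F o
  have sq := Cfsg.Agent.R2.H20.Mon.ArkA.ark_sq Fo F hE O hO
  have col : ∀ v ∈ O, v ∈ (geo F.ch o).Pt → s ∈ (geo F.ch o).KK O v → ∀ w ∈ O, w ∈ (geo F.ch o).Pt →
      s ∈ (geo F.ch o).KK O w → w ∈ (geo F.ch o).QQ v := by
    intro v hv hvP hsv w hw hwP hsw
    by_contra hn
    exact hs (KK_opp Fo F hE O hO v hv hvP w hw hwP hn s hsv hsw)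
  refine ⟨{ carrier := (geo F.ch o).Vs O s, one_mem' := Or.inl rfl, mul_mem' := ?_, inv_mem' := ?_ }, rfl, ?_, ?_, ?_⟩
  · intro a b ha hb
    rcases ha with rfl | ⟨ha, haP, hsa⟩
    · rw [one_mul]; exact hb
    rcases hb with rfl | ⟨hb, hbP, hsb⟩
    · rw [mul_one]; exact Or.inr ⟨ha, haP, hsa⟩
    by_cases hab : a = b
    · left; rw [← hab, sq a ha]
    · right
      have h1 := col a ha haP hsa b hb hbP hsb
      exact ⟨O.mul_mem ha hb, B.line a haP b hbP hab h1, KK_inf ho F hE O hO a ha haP b hb hbP hab h1 s hsa hsb⟩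
  · intro a ha
    rcases ha with rfl | ⟨ha, haP, hsa⟩
    · rw [inv_one]; exact Or.inl rfl
    · rw [inv_eq_of_mul_eq_one_left (sq a ha)]; exact Or.inr ⟨ha, haP, hsa⟩
  · intro a ha
    rcases ha with rfl | ⟨ha, haP, hsa⟩
    · exact O.one_mem
    · exact ha
  · intro a ha hne
    rcases ha with h | ⟨ha, haP, hsa⟩
    · exact absurd h hne
    · exact haP
  · intro a ha hne b hb
    rcases ha with h | ⟨ha, haP, hsa⟩
    · exact absurd h hne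
    rcases hb with rfl | ⟨hb, hbP, hsb⟩
    · exact Subgroup.one_mem _
    · exact col a ha haP hsa b hb hbP hsb

theorem ncard_Vs_le [Finite G] (ho : wt o = 8) (F : Fr Q z eta pi y τ) (hE : TE F.ch τ) {O : Subgroup G}
    (hO : O ∈ (geo F.ch o).Ark) {s : G} (hs : s ∉ O) : ((geo F.ch o).Vs O s).ncard ≤ 32 := by
  obtain ⟨S, hS, hSO, hP, -⟩ := exists_Vs ho F hE hO hs
  rw [← hS]
  exact Cfsg.Agent.R2.H20.Mon.ArkA.ts_card (facts ho) F hE O hO S hSO hP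

end Cfsg.Agent.R2.H4.Mon.VsGrp
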