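import Cfsg.Agent.R2.H4.Mon.VsGrp
import Cfsg.Agent.R2.H10.Mon.Omega

/-!
# The facts on the geometry: assembly
-/

set_option autoImplicit false
set_option linter.unusedSectionVars false

open Cfsg

namespace Cfsg.Agent.R2.H4.Mon.FactsAsm

open Cfsg.Agent.MonsterU.Lam2 (L2)
open Cfsg.Agent.CoOneType.SignFacts
open Cfsg.Agent.MonsterU.Ch
open Cfsg.Agent.R2.H4.Mon.Frm
open Cfsg.Agent.R2.H4.Mon.GeoInst
open Cfsg.Agent.R2.H4.Mon.ArkStd
open Cfsg.Agent.R2.H20.Mon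
open Cfsg.Agent.R2.M7
open Cfsg.Agent.R2.M7.Geo (cj CC)
open Cfsg.Spor (Co1)

variable {G : Type*} [Group G] {Q : Subgroup G} {z : G} {eta : G → L2}
  {pi : Subgroup.centralizer ({z} : Set G) →* Co1} {y τ : G} {o : golayCode}

theorem qsq (F : Fr Q z eta pi y τ) : ∀ x ∈ (geo F.ch o).Pt, ∀ a ∈ (geo F.ch o).QQ x, a * a = 1 ∨ a * a = x :=
  fun _ hx a ha => (large_QQ F.ch.large hx).sq a ha

theorem arkFacts [Finite G] (ho : wt o = 8) (F : Fr Q z eta pi y τ) (hE : TE F.ch τ)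
    (hV : ∀ O ∈ (geo F.ch o).Ark, ∀ z' ∈ O, z' ∈ (geo F.ch o).Pt → ∀ s ∈ CC O, s ∈ (geo F.ch o).QQ z' → s * s = 1 →
      s ∉ O → ((geo F.ch o).Vs O s).ncard = 32)
    (hVi : ∀ O ∈ (geo F.ch o).Ark, ∀ z' ∈ O, z' ∈ (geo F.ch o).Pt → ∀ s ∈ CC O, s ∈ (geo F.ch o).QQ z' → s * s = 1 →
      s ∉ O → ∀ s' ∈ CC O, s' ∈ (geo F.ch o).QQ z' → s' * s' = 1 → s' ∉ O → s * s' = s' * s → s * s' ∉ O →
      8 ≤ ((geo F.ch o).Vs O s ∩ (geo F.ch o).Vs O s').ncard) : (geo F.ch o).ArkFacts :=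
  { conj := ArkA.ark_conj F
    comm := ArkA.ark_comm (facts ho) F hE
    sq := ArkA.ark_sq (facts ho) F hE
    card := ArkA.ark_card (facts ho) F hE
    bet_mul := ArkA.bet_mul (facts ho) F hE
    bet_iff := ArkA.bet_iff (facts ho) F hE
    bet_nondeg := ArkA.bet_nondeg (facts ho) F hE
    ts_card := ArkA.ts_card (facts ho) F hE
    omega := Cfsg.Agent.R2.H10.Mon.Omega.omega (facts ho) F hE
    opp_inf := ArkA.opp_inf (facts ho) F hE
    opp_sup := ArkA.opp_sup (facts ho) F hE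
    lstar := LStar.lstar ho F
    V_card := hV
    V_inter := hVi
    cent_le := ArkStd.cent_le (facts ho) F hE
    unique := ArkStd.unique (facts ho) F hE
    pt_mem := ArkStd.pt_mem ho F }

theorem facts' [Finite G] (ho : wt o = 8) (F : Fr Q z eta pi y τ) (hark : (geo F.ch o).ArkFacts)
    (h2 : (geo F.ch o).TwoArk) : (geo F.ch o).Facts :=
  { basic := basic F o
    ark := hark
    type := typeFact ho F
    two := h2
    qsq := qsq F }

end Cfsg.Agent.R2.H4.Mon.FactsAsm
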