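import Cfsg.Agent.R2.H4.Mon.KeyGrp
import Cfsg.Agent.MonsterU.TwoDod

/-!
# The sign change on a dodecad acting on the lattice modulo two

* `mem_W12_of_fix` : the singular fixed classes are in `W12`;
* `exists_comm` : a class moved by at most the frame class is congruent to a class of `W12` modulo commutators;
* `mem_F_of_comm` : the centraliser is in the stabiliser of the frame.
-/

set_option autoImplicit false
set_option linter.unusedSectionVars false

open Cfsg

namespace Cfsg.Agent.R2.H4.Mon.Dod

open Cfsg.Agent.SporadicA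
open Cfsg.Agent.SporadicA.Co0Mono (signCo0 signCo0_smul signMap_apply sgn_one sgn_zero signCo0_add)
open Cfsg.Agent.SporadicA.Co1Simple (allOne N)
open Cfsg.Agent.SporadicStructure.LeechBase (zmod2_cases)
open Cfsg.Agent.SporadicStructure.Co0Base (e8 e8_coe)
open Cfsg.Agent.CoOneType.SignFacts
open Cfsg.Agent.CoOneType.CoOneE (pr pr_surjective pr_eq_iff E mem_E pr_sign_eq_iff wt_of_isConj allOne_add_self sup_zero wt_eq_zero
  sup_add wt_add sup_inj)
open Cfsg.Agent.MonsterU.Lam2 (L2 cl cl_surjective bf qf cl_eq smul_cl qf_cl_eq_zero)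
open Cfsg.Agent.MonsterU.CoFrame
open Cfsg.Agent.MonsterU.CoFrameAct
open Cfsg.Agent.MonsterU.CoFrameL2
open Cfsg.Agent.MonsterU.CoFrameIrr (hwHom)
open Cfsg.Agent.H848.Oct (eps)
open Cfsg.Agent.R2.H4.Mon.Golay
open Cfsg.Agent.R2.H4.Mon.KeyGrp
open Cfsg.Spor (Co1)

/-- words inside a dodecad -/
theorem eq_of_sub {m d : golayCode} (hd : wt d = 12) (h : sup m ⊆ sup d) : m = 0 ∨ m = d := by
  have h1 := wt_cases m
  have h2 := wt_add m d
  have h3 : sup m ∩ sup d = sup m := Finset.inter_eq_left.2 h
  have h4 := wt_cases (m + d)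
  have h5 : wt m ≤ wt d := Finset.card_le_card h
  rw [h3] at h2
  have h6 : (sup m).card = wt m := rfl
  rcases h1 with h1 | h1 | h1 | h1 | h1
  · exact Or.inl (wt_eq_zero m h1)
  · omega
  · right
    apply sup_inj
    exact Finset.eq_of_subset_of_card_le h (by
      have h7 : (sup d).card = wt d := rfl
      omega)
  · omega
  · omega

theorem wt_compl {d : golayCode} (hd : wt d = 12) : wt (d + allOne) = 12 := by
  have := wt_add_allOne d
  omega

/-- the words whose product with a dodecad is in the code -/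
theorem four_cases {c d : golayCode} (hd : wt d = 12) (h : mulw d c ∈ golayCode) :
    c = 0 ∨ c = allOne ∨ c = d ∨ c = d + allOne := by
  have h1 : sup ⟨mulw d c, h⟩ = sup d ∩ sup c := support₂_mulw d c
  have h2 := eq_of_sub hd (m := ⟨mulw d c, h⟩) (by rw [h1]; exact Finset.inter_subset_left)
  rcases h2 with h2 | h2
  · -- disjoint
    have h3 : sup c ⊆ sup (d + allOne) := by
      intro i hi
      rw [sup_add_allOne, Finset.mem_compl]
      intro hid
      have h4 : i ∈ sup d ∩ sup c := Finset.mem_inter.2 ⟨hid, hi⟩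
      rw [← h1, h2, sup_zero] at h4
      exact Finset.notMem_empty i h4
    rcases eq_of_sub (wt_compl hd) h3 with h4 | h4
    · exact Or.inl h4
    · exact Or.inr (Or.inr (Or.inr h4))
  · -- the dodecad is contained in the word
    have h3 : sup (c + d) ⊆ sup (d + allOne) := by
      intro i hi
      rw [sup_add_allOne, Finset.mem_compl]
      intro hid
      rw [sup_add, Finset.mem_symmDiff] at hi
      have h4 : i ∈ sup d ∩ sup c := by rw [← h1, h2]; exact hid
      rw [Finset.mem_inter] at h4
      tauto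
    rcases eq_of_sub (wt_compl hd) h3 with h4 | h4
    · right; right; left
      exact Golay.add_eq_zero_iff.1 h4
    · right; left
      have : c + d + d = allOne := by
        rw [h4, add_comm d allOne, add_assoc, Golay.add_self, add_zero]
      rwa [add_assoc, Golay.add_self, add_zero] at this

/-- the sign change in terms of a lattice vector -/
theorem exists_restr {d : golayCode} {v : leechLattice} (h : eps d • cl v = cl v) :
    ∃ w : leechLattice, ∀ i, (w : GolayPt → ℤ) i = if (d : GolayPt → ZMod 2) i = 1 then -(v : GolayPt → ℤ) i else 0 := by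
  have h1 : cl (signCo0 d • v) = cl v := h
  obtain ⟨w, hw'⟩ := (cong_iff_cl _ _).2 h1
  refine ⟨w, fun i => ?_⟩
  have h5 : Cfsg.Agent.SporadicA.Co0Mono.sgn ((d : GolayPt → ZMod 2) i) * (v : GolayPt → ℤ) i =
      (v : GolayPt → ℤ) i + 2 * (w : GolayPt → ℤ) i := by
    have h3 := congrArg (fun u : leechLattice => (u : GolayPt → ℤ) i) hw'
    rw [← signMap_apply, ← signCo0_smul]
    refine h3.trans ?_
    show (v : GolayPt → ℤ) i + (2 : ℕ) • (w : GolayPt → ℤ) i = _
    rw [nsmul_eq_mul]; rfl
  rcases zmod2_cases ((d : GolayPt → ZMod 2) i) with e | e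
  · rw [e, sgn_zero] at h5
    rw [e, if_neg (by decide)]
    omega
  · rw [e, sgn_one] at h5
    rw [e, if_pos rfl]
    omega

theorem mem_V23_of_fix {d : golayCode} {v : leechLattice} (h0 : ∃ i, i ∉ sup d) (h : eps d • cl v = cl v)
    (h1 : ∃ i, i ∈ sup d) : v ∈ V23 := by
  obtain ⟨w, hw'⟩ := exists_restr h
  obtain ⟨i, hi⟩ := h0
  obtain ⟨j, hj⟩ := h1
  have h2 := parity w j i
  rw [hw' i, hw' j, if_pos ((mem_sup d j).1 hj), if_neg (by rw [(notMem_sup d i).1 hi]; decide)] at h2
  exact mem_V23_of_one (i := j) (by omega)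

/-- a fixed class over the dodecad is not singular -/
theorem qf_ne {d : golayCode} (hd : wt d = 12) {v : leechLattice} (hv : v ∈ V23) (h : eps d • cl v = cl v)
    (hw' : hwHom ⟨v, hv⟩ = d) : qf (cl v) ≠ 0 := by
  classical
  obtain ⟨w, hw⟩ := exists_restr h
  have hvw : ∀ i, ((v + w : leechLattice) : GolayPt → ℤ) i =
      if (d : GolayPt → ZMod 2) i = 1 then 0 else (v : GolayPt → ℤ) i := by
    intro i
    show (v : GolayPt → ℤ) i + (w : GolayPt → ℤ) i = _
    rw [hw i]
    split_ifs <;> ring
  have hword : ∀ i, (((v : GolayPt → ℤ) i / 2 : ℤ) : ZMod 2) = (d : GolayPt → ZMod 2) i := by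
    intro i
    rw [← hw']
    rfl
  have h4 : v + w ∈ V12 := by
    apply four_mem_V12
    intro i
    rw [hvw i]
    split_ifs with e
    · exact dvd_zero _
    · have e0 : (d : GolayPt → ZMod 2) i = 0 := (zmod2_cases _).resolve_right e
      have h5 := hword i
      rw [e0, ZMod.intCast_zmod_eq_zero_iff_dvd] at h5
      have h6 := hv i
      push_cast at h5
      omega
  have h5 : (32 : ℤ) ∣ sqNorm ((v + w : leechLattice) : GolayPt → ℤ) :=
    qf_cl_eq_zero.1 (Cfsg.Agent.H848.TrioK.qf_W12 (cl_mem_W12.2 h4))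
  have h6 : sqNorm (v : GolayPt → ℤ) = sqNorm (w : GolayPt → ℤ) + sqNorm ((v + w : leechLattice) : GolayPt → ℤ) := by
    unfold sqNorm
    rw [← Finset.sum_add_distrib]
    refine Finset.sum_congr rfl fun i _ => ?_
    rw [hvw i, hw i]
    split_ifs <;> ring
  have h7 : ∃ k : ℤ, sqNorm (w : GolayPt → ℤ) = 48 + 32 * k := by
    have h8 : ∀ i, ∃ k : ℤ, (w : GolayPt → ℤ) i ^ 2 = (if i ∈ sup d then 4 else 0) + 32 * k := by
      intro i
      rw [hw i]
      by_cases hi : i ∈ sup d
      · have e1 := (mem_sup d i).1 hi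
        rw [if_pos hi, if_pos e1]
        have h9 := hword i
        rw [e1] at h9
        obtain ⟨x, hx⟩ := hv i
        rw [hx, Int.mul_ediv_cancel_left _ (by norm_num)] at h9
        have h10 : x % 2 = 1 := by
          rcases Int.emod_two_eq_zero_or_one x with e | e
          · exfalso
            have : ((x : ℤ) : ZMod 2) = 0 := (ZMod.intCast_zmod_eq_zero_iff_dvd x 2).2 (by
              push_cast; omega)
            rw [this] at h9
            exact absurd h9 (by decide)
          · exact e
        obtain ⟨m, hm⟩ : ∃ m, x = 2 * m + 1 := ⟨x / 2, by omega⟩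
        obtain ⟨n, hn⟩ : ∃ n, m * (m + 1) = 2 * n := by
          obtain ⟨n, hn⟩ := Int.even_mul_succ_self m
          exact ⟨n, by rw [hn]; ring⟩
        refine ⟨n, ?_⟩
        rw [hx, hm]
        linear_combination (16 : ℤ) * hn
      · rw [if_neg hi, if_neg (by rw [(notMem_sup d i).1 hi]; decide)]
        exact ⟨0, by ring⟩
    choose k hk using h8
    refine ⟨∑ i, k i, ?_⟩
    unfold sqNorm
    rw [Finset.sum_congr rfl fun i _ => hk i, Finset.sum_add_distrib, ← Finset.mul_sum, ← Finset.sum_filter,
      Finset.sum_const]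
    have : (Finset.univ.filter fun i => i ∈ sup d) = sup d := by ext i; simp
    rw [this]
    have h12 : (sup d).card = 12 := hd
    rw [h12]
    norm_num
  intro h8
  rw [qf_cl_eq_zero, h6] at h8
  obtain ⟨k, hk⟩ := h7
  omega

/-- **The singular fixed classes of a dodecad are in `W12`.** -/
theorem mem_W12_of_fix {d : golayCode} (hd : wt d = 12) {x : L2} (h : eps d • x = x) (hq : qf x = 0) : x ∈ W12 := by
  obtain ⟨v, rfl⟩ := cl_surjective x
  have hv : v ∈ V23 := by
    apply mem_V23_of_fix _ h
    · by_contra hn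
      push Not at hn
      unfold wt at hd
      rw [Finset.eq_empty_iff_forall_notMem.2 hn, Finset.card_empty] at hd
      omega
    · by_contra hn
      push Not at hn
      unfold wt at hd
      rw [Finset.eq_univ_iff_forall.2 hn] at hd
      exact absurd hd (by decide)
  have h1 := mulw_mem hv h
  have hd' := wt_compl hd
  rw [cl_mem_W12, mem_V12_iff_hw hv]
  rcases four_cases hd h1 with h2 | h2 | h2 | h2
  · left; exact congrArg Subtype.val h2
  · right; exact congrArg Subtype.val h2
  · exact absurd hq (qf_ne hd hv h h2)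
  · exact absurd hq (qf_ne hd' hv (by rw [eps_add_allOne]; exact h) h2)

open Cfsg.Agent.MonsterU.InvTwoLat (Cl IsEps isEps_sign) in
/-- a fixed class is in `W12` modulo the commutators -/
theorem exists_comm_of_fix {d : golayCode} (hd : wt d = 12) {x : L2} (h : eps d • x = x) :
    ∃ r : L2, x + (eps d • r + r) ∈ W12 := by
  obtain ⟨v, rfl⟩ := cl_surjective x
  have h1 : cl (signCo0 d • v) = cl v := h
  obtain ⟨t, ht⟩ := (cong_iff_cl _ _).2 h1
  obtain ⟨r, w, hrw⟩ := Cfsg.Agent.MonsterU.TwoDod.exists_form_dod (O := support₂ (d : GolayPt → ZMod 2))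
    ⟨d, d.2, rfl⟩ hd (isEps_sign d) v ⟨-t, by rw [ht]; simp⟩
  refine ⟨cl r, ?_⟩
  have h2 : cl (v + (r - signCo0 d • r) + 2 • w) ∈ W12 := by
    rw [cl_mem_W12]
    apply four_mem_V12
    intro i
    have h3 := hrw i
    have h4 : Cfsg.Agent.Leech.Basic.chi ∅ i = 0 := by
      unfold Cfsg.Agent.Leech.Basic.chi
      simp
    rw [h4, mul_zero, sub_zero] at h3
    exact h3
  have h3 : cl (v + (r - signCo0 d • r) + 2 • w) = cl v + (eps d • cl r + cl r) := by
    rw [map_add, map_add, map_sub, Cfsg.Agent.MonsterU.Lam2.cl_two, add_zero]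
    have h4 : cl (signCo0 d • r) = eps d • cl r := rfl
    rw [h4, sub_eq_add_neg, Cfsg.Agent.MonsterU.Lam2.neg_eq, add_comm (cl r)]
  rwa [h3] at h2

/-- **A class moved by at most the frame class.** -/
theorem exists_comm {d : golayCode} (hd : wt d = 12) {x : L2} (h : eps d • x + x ∈ W1) :
    ∃ r : L2, x + (eps d • r + r) ∈ W12 := by
  rcases (mem_W1 _).1 h with h1 | h1
  · apply exists_comm_of_fix hd
    exact (add_eq_zero_iff_eq_neg.1 h1).trans (Cfsg.Agent.MonsterU.Lam2.neg_eq x)
  · obtain ⟨i, hi⟩ : ∃ i, i ∈ sup d := by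
      by_contra hn
      push Not at hn
      unfold wt at hd
      rw [Finset.eq_empty_iff_forall_notMem.2 hn, Finset.card_empty] at hd
      omega
    obtain ⟨j, hj⟩ : ∃ j, j ∉ sup d := by
      by_contra hn
      push Not at hn
      unfold wt at hd
      rw [Finset.eq_univ_iff_forall.2 hn] at hd
      exact absurd hd (by decide)
    have hij : i ≠ j := fun e => hj (e ▸ hi)
    have h2 : eps d • cl (duad i j) + cl (duad i j) = f0 := by
      have h3 : eps d • cl (duad i j) = cl (signCo0 d • duad i j) := rfl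
      rw [h3, ← map_add, f0, ← (cong_iff_cl _ _).1 (cong_e8 j none), ← cong_iff_cl, cong_iff_coe]
      refine ⟨_, (-(e8 j : leechLattice)).2, fun k => ?_⟩
      show ((signCo0 d • duad i j : leechLattice) : GolayPt → ℤ) k + ((duad i j : leechLattice) : GolayPt → ℤ) k =
        ((e8 j : leechLattice) : GolayPt → ℤ) k + 2 * (-((e8 j : leechLattice) : GolayPt → ℤ) k)
      simp only [signCo0_smul, signMap_apply, duad_coe, coe_e8]
      by_cases hki : k = i
      · subst hki
        rw [(mem_sup d k).1 hi, sgn_one, if_pos rfl, if_neg hij, if_neg hij]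
        ring
      · by_cases hkj : k = j
        · subst hkj
          rw [(notMem_sup d k).1 hj, sgn_zero, if_neg hki, if_pos rfl, if_pos rfl]
          ring
        · rw [if_neg hki, if_neg hkj, if_neg hkj]
          ring
    have h3 : eps d • (x + cl (duad i j)) = x + cl (duad i j) := by
      have h4 : eps d • (x + cl (duad i j)) + (x + cl (duad i j)) = 0 := by
        rw [smul_add]
        have e : eps d • x + eps d • cl (duad i j) + (x + cl (duad i j)) =
          (eps d • x + x) + (eps d • cl (duad i j) + cl (duad i j)) := by abel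
        rw [e, h1, h2, Cfsg.Agent.MonsterU.Lam2.add_self]
      exact (add_eq_zero_iff_eq_neg.1 h4).trans (Cfsg.Agent.MonsterU.Lam2.neg_eq _)
    obtain ⟨r, hr⟩ := exists_comm_of_fix hd h3
    refine ⟨r, ?_⟩
    have h4 := W12.add_mem hr (cl_mem_W12.2 (duad_mem i j))
    have e : x + cl (duad i j) + (eps d • r + r) + cl (duad i j) =
      x + (eps d • r + r) + (cl (duad i j) + cl (duad i j)) := by abel
    rwa [e, Cfsg.Agent.MonsterU.Lam2.add_self, add_zero] at h4

/-- **The centraliser of the sign change on a dodecad.** -/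
theorem mem_F_of_comm {d : golayCode} (hd : wt d = 12) {s : Co1} (h : s * eps d = eps d * s) : s ∈ F := by
  obtain ⟨g, rfl⟩ := pr_surjective s
  apply pr_mem_F
  have h1 : pr (g * signCo0 d) = pr (signCo0 d * g) := by rw [map_mul, map_mul]; exact h
  rcases (pr_eq_iff _ _).1 h1 with h2 | h2
  · exact mem_N_of_conj_dodecad d d hd hd g h2.symm
  · apply mem_N_of_conj_dodecad (d + allOne) d (wt_compl hd) hd g
    rw [signCo0_add, h2]
    group

end Cfsg.Agent.R2.H4.Mon.Dod
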