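import Cfsg.Agent.R2.H8.Mon.Adj
import Cfsg.Agent.S0366
import Cfsg.Agent.SporadicStructure.M24IndexMain

/-!
# The singular subgroups of order 8
-/

set_option autoImplicit false
set_option linter.unusedSectionVars false

open Cfsg

namespace Cfsg.Agent.R2.H4.Mon.Eight

open Cfsg.Agent.H848.TrioU
open Cfsg.Agent.SporadicA
open Cfsg.Agent.SporadicA.Xi (IsSextet fib)
open Cfsg.Agent.SporadicA.Co0Mono (signCo0 permCo0 wordPerm)
open Cfsg.Agent.CoOneType.SignFacts
open Cfsg.Agent.CoOneType.CoOneE (pr)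
open Cfsg.Agent.MonsterU.Lam2 (L2 IsType cl cl_surjective bf)
open Cfsg.Agent.MonsterU.CoFrameL2
open Cfsg.Agent.MonsterU.Ch
open Cfsg.Agent.R2.H4.Mon.Frm
open Cfsg.Agent.R2.H4.Mon.GeoInst
open Cfsg.Agent.R2.H4.Mon.GeoConj
open Cfsg.Agent.R2.M7
open Cfsg.Agent.R2.M7.Geo (cj CC)
open Cfsg.Agent.R2.H8.Mon.Cw
open Cfsg.Agent.R2.H8.Mon.Refine
open Cfsg.Agent.R2.H8.Mon.Lat
open Cfsg.Agent.R2.H8.Mon.Sing
open Cfsg.Agent.R2.H8.Mon.Adj
open Cfsg.Spor (Co1)
open scoped Pointwise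

variable {G : Type*} [Group G] {Q : Subgroup G} {z : G} {eta : G → L2}
  {pi : Subgroup.centralizer ({z} : Set G) →* Co1} {y τ : G} {o : golayCode}

/-- a third element -/
theorem exists_third' [Finite G] (F : Fr Q z eta pi y τ) {F₀ : Subgroup G} (S : SF Q z y F₀) (hc : 4 < Nat.card F₀) :
    ∃ a ∈ F₀, eta a ∉ W1 := by
  classical
  by_contra hn
  push Not at hn
  have h1 : (F₀ : Set G) ⊆ (({1, z, y, y * z} : Finset G) : Set G) := by
    intro x hx
    have := mem_of_W1 F (S.mem_Q F hx) (hn x hx)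
    simpa using this
  have h2 := Set.ncard_le_ncard h1 (Finset.finite_toSet _)
  rw [Set.ncard_coe_finset] at h2
  have h3 : (F₀ : Set G).ncard = Nat.card F₀ := rfl
  have h4 := Finset.card_le_four (a := (1 : G)) (b := z) (c := y) (d := y * z)
  omega

/-- three elements generate a singular subgroup of order 8 -/
theorem le_of_mem [Finite G] (F : Fr Q z eta pi y τ) {F₀ : Subgroup G} (S : SF Q z y F₀) (hc : Nat.card F₀ = 8)
    {a : G} (ha : a ∈ F₀) (h1 : eta a ∉ W1) {K : Subgroup G} (hz : z ∈ K) (hy : y ∈ K) (haK : a ∈ K) : F₀ ≤ K := by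
  classical
  have hzne : z ≠ 1 := F.ch.large.z_ne
  have hyne : y ≠ 1 := F.y_ne_one
  have hyz : y ≠ z := F.y_ne
  have hne : ∀ w : G, eta w ∈ W1 → w ≠ a := by
    rintro w hw rfl
    exact h1 hw
  have e1 : eta (1 : G) ∈ W1 := by rw [F.ch.eta_one]; exact W1.zero_mem
  have ez : eta z ∈ W1 := by rw [F.ch.eta_z]; exact W1.zero_mem
  have ey : eta y ∈ W1 := by rw [F.hy]; exact f0_mem_W1
  have ezy : eta (z * y) ∈ W1 := by
    rw [F.ch.eta_mul z F.ch.large.z_mem y F.hyQ, F.ch.eta_z, zero_add, F.hy]; exact f0_mem_W1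
  have hsub : (({1, z, y, z * y, a} : Finset G) : Set G) ⊆ ((F₀ ⊓ K : Subgroup G) : Set G) := by
    intro x hx
    simp only [Finset.coe_insert, Finset.coe_singleton, Set.mem_insert_iff, Set.mem_singleton_iff] at hx
    rcases hx with rfl | rfl | rfl | rfl | rfl
    · exact Subgroup.one_mem _
    · exact ⟨S.hz, hz⟩
    · exact ⟨S.hy, hy⟩
    · exact ⟨F₀.mul_mem S.hz S.hy, K.mul_mem hz hy⟩
    · exact ⟨ha, haK⟩
  have hcard : ({1, z, y, z * y, a} : Finset G).card = 5 := by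
    have n1 : (1 : G) ≠ z * y := fun h => hyz (by
      have := F.z_sq
      calc y = z * z * y := by rw [this, one_mul]
        _ = z * (z * y) := by group
        _ = z := by rw [← h, mul_one])
    have n2 : z ≠ z * y := fun h => hyne (left_eq_mul.1 h)
    have n3 : y ≠ z * y := fun h => hzne (right_eq_mul.1 h)
    rw [Finset.card_insert_of_notMem, Finset.card_insert_of_notMem, Finset.card_insert_of_notMem,
      Finset.card_insert_of_notMem, Finset.card_singleton]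
    · simp only [Finset.mem_singleton]; exact hne _ ezy
    · simp only [Finset.mem_insert, Finset.mem_singleton, not_or]; exact ⟨n3, hne _ ey⟩
    · simp only [Finset.mem_insert, Finset.mem_singleton, not_or]; exact ⟨hyz.symm, n2, hne _ ez⟩
    · simp only [Finset.mem_insert, Finset.mem_singleton, not_or]
      exact ⟨hzne.symm, hyne.symm, n1, hne _ e1⟩
  have h2 := Set.ncard_le_ncard hsub (Set.toFinite _)
  rw [Set.ncard_coe_finset, hcard] at h2
  have h3 : ((F₀ ⊓ K : Subgroup G) : Set G).ncard = Nat.card (F₀ ⊓ K : Subgroup G) := rfl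
  rw [h3] at h2
  have h4 : Nat.card (F₀ ⊓ K : Subgroup G) ∣ 8 := by rw [← hc]; exact Subgroup.card_dvd_of_le inf_le_left
  have h5 : Nat.card (F₀ ⊓ K : Subgroup G) = 8 := by
    have h6 := Nat.le_of_dvd (by norm_num) h4
    generalize Nat.card (F₀ ⊓ K : Subgroup G) = n at h2 h4 h6
    interval_cases n <;> first | rfl | (exfalso; revert h4; decide)
  have h6 : F₀ ⊓ K = F₀ := Subgroup.eq_of_le_of_card_ge inf_le_left (by rw [h5, hc])
  rw [← h6]
  exact inf_le_right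

/-- **The singular subgroups of order 8 are conjugate.** -/
theorem eight [Finite G] (F : Fr Q z eta pi y τ) {F₀ F₁ : Subgroup G} (S : SF Q z y F₀) (S' : SF Q z y F₁)
    (hc : Nat.card F₀ = 8) (hc' : Nat.card F₁ = 8) : ∃ k : G, cj k F₀ = F₁ := by
  classical
  obtain ⟨a, ha, ha1⟩ := exists_third' F S (by omega)
  obtain ⟨b, hb, hb1⟩ := exists_third' F S' (by omega)
  obtain ⟨T, hT⟩ := S.exists_sx F ha ha1
  obtain ⟨T', hT'⟩ := S'.exists_sx F hb hb1
  obtain ⟨σ, hσ⟩ := Cfsg.Agent.SporadicStructure.M24IndexMain.exists_smul_eq_finset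
    Cfsg.Agent.S0366.result (n := 4) (by norm_num) (hT.card 0) (hT'.card 0)
  obtain ⟨c, hc0⟩ := F.ch.pi_surj (pr (signCo0 0 * permCo0 σ))
  have hcz := Subgroup.mem_centralizer_singleton_iff.1 c.2
  have hF : pr (signCo0 0 * permCo0 σ) ∈ Cfsg.Agent.MonsterU.CoFrameL2.F := Cfsg.Agent.MonsterU.CoFrameF.sp_mem_F 0 σ
  refine ⟨c, Subgroup.eq_of_le_of_card_ge ?_ (by rw [card_cj, hc, hc'])⟩
  have key : ∀ x ∈ Q, ∀ w ∈ F₁, (pr (signCo0 0 * permCo0 σ) • eta x = eta w ∨ pr (signCo0 0 * permCo0 σ) • eta x = eta w + f0) →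
      (c : G) * x * (c : G)⁻¹ ∈ F₁ := by
    intro x hx w hw h
    have hxQ := F.ch.large.conj_mem c hcz x hx
    have h1 : eta ((c : G) * x * (c : G)⁻¹) = pr (signCo0 0 * permCo0 σ) • eta x := by rw [F.ch.eta_conj c x hx, hc0]
    rcases h with h | h
    · rw [h] at h1
      rcases (F.ch.eta_eq hxQ (S'.mem_Q F hw)).1 h1 with h2 | h2
      · rw [h2]; exact hw
      · rw [h2]; exact F₁.mul_mem hw S'.hz
    · rw [h, ← F.hy, ← F.ch.eta_mul w (S'.mem_Q F hw) y F.hyQ] at h1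
      rcases (F.ch.eta_eq hxQ (Q.mul_mem (S'.mem_Q F hw) F.hyQ)).1 h1 with h2 | h2
      · rw [h2]; exact F₁.mul_mem hw S'.hy
      · rw [h2]; exact F₁.mul_mem (F₁.mul_mem hw S'.hy) S'.hz
  have hle : F₀ ≤ F₁.comap (MulAut.conj (c : G)).toMonoidHom := by
    apply le_of_mem F S hc ha ha1
    · show (c : G) * z * (c : G)⁻¹ ∈ F₁
      rw [hcz, mul_inv_cancel_right]; exact S'.hz
    · show (c : G) * y * (c : G)⁻¹ ∈ F₁
      apply key y F.hyQ y S'.hy
      left
      rw [F.hy, smul_f0 hF]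
    · show (c : G) * a * (c : G)⁻¹ ∈ F₁
      apply key a (S.mem_Q F ha) b hb
      apply eq_or_of_pairL (F_mem_W12 hF (S.mem_W12 F ha)) (S'.mem_W12 F hb)
      intro d
      obtain ⟨d, rfl⟩ : ∃ d', d = wordPerm σ d' := by
        refine ⟨wordPerm σ⁻¹ d, ?_⟩
        apply Subtype.ext
        funext i
        rw [Cfsg.Agent.SporadicA.Co0Mono.wordPerm_apply, Cfsg.Agent.SporadicA.Co0Mono.wordPerm_apply]
        exact congrArg (d : GolayPt → ZMod 2) (Equiv.apply_symm_apply (σ : Equiv.Perm GolayPt) i).symm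
      rw [pairL_sp (S.mem_W12 F ha), hT.ev 0, hT'.ev 0, ← hσ, ev_smul]
  rintro _ ⟨x, hx, rfl⟩
  exact hle hx

end Cfsg.Agent.R2.H4.Mon.Eight
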