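import Cfsg.Agent.R2.H4.Mon.LStar

/-!
# The intersections `Q ∩ Q_v` and `KK T v` in the chart
-/

set_option autoImplicit false
set_option linter.unusedSectionVars false

open Cfsg

namespace Cfsg.Agent.R2.H4.Mon.IvLink

open Cfsg.Agent.SporadicA.Co1Simple (allOne)
open Cfsg.Agent.SporadicA.Co0Mono (signCo0)
open Cfsg.Agent.SporadicStructure.LeechBase (zmod2_cases red)
open Cfsg.Agent.CoOneType.SignFacts
open Cfsg.Agent.CoOneType.CoOneE (pr pr_surjective E mem_E isConj_of_wt wt_of_isConj allOne_add_self sup_zero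
  wt_eq_zero sup_add wt_add sup_inj)
open Cfsg.Agent.MonsterU.Lam2 (L2 IsType cl cl_surjective neg_eq bf bf_cl)
open Cfsg.Agent.MonsterU.CoFrame
open Cfsg.Agent.MonsterU.CoFrameAct
open Cfsg.Agent.MonsterU.CoFrameL2
open Cfsg.Agent.MonsterU.CoFrameIrr (hwHom)
open Cfsg.Agent.MonsterU.AmalGen (pre mem_pre EE pi_mem_F_iff pre_W1 z_mem_pre comm_y dot_duad)
open Cfsg.Agent.MonsterU.AmalInf (AA mem_AA CA mem_CA Einf Eτ mem_EE_iff exists_CA_of_E)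
open Cfsg.Agent.MonsterU.Ch
open Cfsg.Agent.H848.Oct (eps eps_mul_eps W16 W8 mem_W16 CO mem_CO perp_W8 W8_le_W16)
open Cfsg.Agent.H848.TrioU (pairL pairL_cl)
open Cfsg.Agent.H848.TenB (T mem_T pre_W8_le)
open Cfsg.Agent.R2.H4.Mon.Golay
open Cfsg.Agent.R2.H4.Mon.KeyGrp
open Cfsg.Agent.R2.H4.Mon.Frm
open Cfsg.Agent.R2.H4.Mon.GeoInst
open Cfsg.Agent.R2.H4.Mon.GeoConj
open Cfsg.Agent.R2.H4.Mon.ArkStd
open Cfsg.Agent.R2.H4.Mon.LStar
open Cfsg.Agent.R2.M7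
open Cfsg.Agent.R2.M7.Geo (cj CC)
open Cfsg.Spor (Co1)

variable {G : Type*} [Group G] {Q : Subgroup G} {z : G} {eta : G → L2}
  {pi : Subgroup.centralizer ({z} : Set G) →* Co1} {y τ : G} {o : golayCode}

theorem conj_inv_mem (h : Chart Q z eta pi) (c : Subgroup.centralizer ({z} : Set G)) {q : G} (hq : q ∈ Q) :
    (c : G)⁻¹ * q * (c : G) ∈ Q := by
  have h1 := h.large.conj_mem _ (Subgroup.mem_centralizer_singleton_iff.1 (c⁻¹).2) _ hq
  have e : ((c⁻¹ : Subgroup.centralizer ({z} : Set G)) : G) * q * ((c⁻¹ : Subgroup.centralizer ({z} : Set G)) : G)⁻¹ =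
      (c : G)⁻¹ * q * (c : G) := by
    rw [Subgroup.coe_inv, inv_inv]
  rwa [e] at h1

theorem eta_conj_inv (h : Chart Q z eta pi) (c : Subgroup.centralizer ({z} : Set G)) {q : G} (hq : q ∈ Q) :
    eta ((c : G)⁻¹ * q * (c : G)) = (pi c)⁻¹ • eta q := by
  rw [← map_inv, ← h.eta_conj c⁻¹ q hq, Subgroup.coe_inv, inv_inv]

/-- the group link: `Q ∩ Q_v` -/
theorem mem_QQ_iff (F : Fr Q z eta pi y τ) (c : Subgroup.centralizer ({z} : Set G)) {q : G} (hq : q ∈ Q) :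
    q ∈ QQ Q z ((c : G) * y * (c : G)⁻¹) ↔ (pi c)⁻¹ • eta q ∈ W12 := by
  rw [QQ_conj_all, mem_cj, F.QQ_y, ← eta_conj_inv F.ch c hq]
  constructor
  · intro h
    exact ((mem_EE_iff F.ch F.hyQ F.hy F.τz F.τy).2 ⟨conj_inv_mem F.ch c hq, h⟩).2
  · intro h
    exact ((mem_EE_iff F.ch F.hyQ F.hy F.τz F.τy).1 ⟨conj_inv_mem F.ch c hq, h⟩).2

/-- a point of `Q` other than `z` -/
theorem exists_cent [Finite G] (F : Fr Q z eta pi y τ) {v : G} (hv : TwoB z v) (hvQ : v ∈ Q) (hne : v ≠ z) :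
    ∃ c : Subgroup.centralizer ({z} : Set G), (c : G) * y * (c : G)⁻¹ = v := by
  obtain ⟨g, rfl⟩ := hv
  obtain ⟨s, hs⟩ := Cfsg.Agent.MonsterU.AmalSideOf.exists_smul_f0
    (Cfsg.Agent.MonsterU.Fused.type_four_of_conj F.ch hvQ hne)
  obtain ⟨c, hc⟩ := F.ch.pi_surj s⁻¹
  have hcz : (c : G) * z = z * c := Subgroup.mem_centralizer_singleton_iff.1 c.2
  have hcQ := F.ch.large.conj_mem c hcz y F.hyQ
  have h1 : eta ((c : G) * y * (c : G)⁻¹) = eta (g * z * g⁻¹) := by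
    rw [F.ch.eta_conj c y F.hyQ, F.hy, hc, ← hs, inv_smul_smul]
  have h0 : eta (g * z * g⁻¹) ≠ 0 := by
    intro h0
    rw [h0, smul_zero] at hs
    exact f0_ne hs.symm
  rcases (F.ch.eta_eq hcQ hvQ).1 h1 with h2 | h2
  · exact ⟨c, h2⟩
  · obtain ⟨q, hq, hqf⟩ := Cfsg.Agent.H848.NormFive.conj_z F.ch hvQ h0
    have h5 : q * z * q⁻¹ = z := by rw [F.ch.large.comm_z _ hq]; group
    refine ⟨⟨q, mem_cent_z F.ch hq⟩ * c, ?_⟩
    show q * c * y * (q * c)⁻¹ = _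
    calc q * c * y * (q * c)⁻¹ = q * (c * y * (c : G)⁻¹) * q⁻¹ := by group
      _ = q * (g * z * g⁻¹) * q⁻¹ * (q * z * q⁻¹) := by rw [h2]; group
      _ = g * z * g⁻¹ := by rw [hqf, h5, mul_assoc _ z z, F.z_sq, mul_one]

/-- **`KK T y`.** -/
theorem mem_KK_y [Finite G] (ho : wt o = 8) (F : Fr Q z eta pi y τ) (hE : TE F.ch τ) {s : G}
    (hs : s ∈ CC (T F.ch o)) (hsQ : s ∈ Q) :
    s ∈ (geo F.ch o).KK (T F.ch o) y ↔ eta s ∈ (W12 ⊓ W16 o) ⊔ W8 o := by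
  have Fo := facts ho
  have H := tauH F hE
  have hTC := T_le_CC Fo F hE
  have hyT : y ∈ T F.ch o := GeoInst.y_mem_T Fo F hE
  constructor
  · intro hsK
    have hτN := Cfsg.Agent.H848.TenC.tau_mem_N F.ch Fo F.hyQ F.hy F.τz F.τy hE
    have hsy : s * y = y * s := (mem_CC.1 hs y hyT).symm
    have hs23 : eta s ∈ W23 := (comm_y F.ch F.hyQ F.hy hsQ).1 hsy
    obtain ⟨v, hqv⟩ := cl_surjective (eta s)
    have hv : v ∈ V23 := by rw [← cl_mem_W23, hqv]; exact hs23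
    have hK : τ⁻¹ * s * τ ∈ (geo F.ch o).KK (T F.ch o) z := by
      rw [← KK_conj_iff (k := τ), cj_of_norm Fo F hE hτN, F.τz]
      have e : τ * (τ⁻¹ * s * τ) * τ⁻¹ = s := by group
      rwa [e]
    have hc := cent_of_KK Fo F hK
    have w2 : pi ⟨τ⁻¹ * s * τ, hc⟩ = eps (hwHom ⟨v, hv⟩) := by
      have hc2 : τ⁻¹ * s * τ⁻¹⁻¹ ∈ Subgroup.centralizer ({z} : Set G) := by rw [inv_inv]; exact hc
      rw [← word_conj H.inv hsQ hv hqv hc2]
      congr 2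
      rw [inv_inv]
    have h1 : eps (hwHom ⟨v, hv⟩) = 1 ∨ eps (hwHom ⟨v, hv⟩) = eps o := by
      rw [← w2]; exact pi_KK Fo F hK hc
    have hs16 : eta s ∈ W16 o := (CC_T_Q F.ch hsQ).1 hs
    rcases h1 with h1 | h1
    · apply AddSubgroup.mem_sup_left
      refine ⟨?_, hs16⟩
      show eta s ∈ W12
      rw [← hqv, cl_mem_W12, mem_V12_iff_hw hv]
      have h2 : eps 0 = eps (hwHom ⟨v, hv⟩) := by rw [h1, eps_zero]
      rcases eps_eq_iff.1 h2 with h3 | h3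
      · left; exact congrArg Subtype.val h3
      · right; rw [zero_add] at h3; exact congrArg Subtype.val h3
    · obtain ⟨u, hu, hu8, huo⟩ := exists_oct_vec ho
      have h2 : cl v - cl u ∈ W12 := by
        apply mem_W12_of_hw hv hu
        rw [huo]
        exact eps_eq_iff.1 h1.symm
      have e : eta s = (cl v - cl u) + cl u := by rw [sub_add_cancel, hqv]
      rw [e]
      refine AddSubgroup.add_mem_sup ⟨h2, ?_⟩ hu8
      rw [hqv]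
      exact AddSubgroup.sub_mem _ hs16 (W8_le_W16 o hu8)
  · intro hsW
    obtain ⟨a, ha, b, hb, hab⟩ := AddSubgroup.mem_sup.1 hsW
    obtain ⟨q, hq, hqa⟩ := F.ch.eta_surj a
    have hqC : q ∈ CC (T F.ch o) := by rw [CC_T_Q F.ch hq, hqa]; exact ha.2
    have hqy : q ∈ QQ Q z y := (Types.EE_le F (⟨hq, by rw [hqa]; exact ha.1⟩ : q ∈ EE F.ch)).1
    have ht : q⁻¹ * s ∈ T F.ch o := by
      apply pre_W8_le
      refine ⟨Q.mul_mem (Q.inv_mem hq) hsQ, ?_⟩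
      have h1 : eta (q⁻¹ * s) = b := by
        rw [F.ch.eta_mul _ (Q.inv_mem hq) _ hsQ, F.ch.eta_inv hq, hqa, ← hab, ← add_assoc]
        have e : a + a = 0 := by
          have := sub_self a
          rwa [sub_eq_add_neg, neg_eq] at this
        rw [e, zero_add]
      show eta (q⁻¹ * s) ∈ W8 o
      rw [h1]; exact hb
    rw [mem_KK]
    exact ⟨q, hqC, hqy, q⁻¹ * s, ht, by group⟩

/-- membership in the intersection subspace of a vector of type 4 -/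
def IvP (v x : L2) : Prop := ∀ g : Co1, g • f0 = v → g⁻¹ • x ∈ W12

theorem IvP_iff {g : Co1} {v x : L2} (hg : g • f0 = v) : IvP v x ↔ g⁻¹ • x ∈ W12 := by
  refine ⟨fun h => h g hg, fun h g' hg' => ?_⟩
  have h1 : g'⁻¹ * g ∈ Cfsg.Agent.MonsterU.CoFrameL2.F :=
    (mem_F_iff _).2 (by rw [mul_smul, hg, ← hg', inv_smul_smul])
  have h2 := F_mem_W12 h1 h
  rwa [smul_smul, mul_assoc, mul_inv_cancel, mul_one] at h2

/-- **(b)** -/
theorem mem_QQ_IvP [Finite G] (F : Fr Q z eta pi y τ) {v q : G} (hv : TwoB z v) (hvQ : v ∈ Q) (hne : v ≠ z)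
    (hq : q ∈ Q) : q ∈ QQ Q z v ↔ IvP (eta v) (eta q) := by
  obtain ⟨c, rfl⟩ := exists_cent F hv hvQ hne
  rw [mem_QQ_iff F c hq, IvP_iff (g := pi c)]
  rw [F.ch.eta_conj c y F.hyQ, F.hy]

/-- **(c)** -/
theorem mem_KK_IvP [Finite G] (ho : wt o = 8) (F : Fr Q z eta pi y τ) (hE : TE F.ch τ) {v s : G}
    (hv : TwoB z v) (hvQ : v ∈ Q) (hvT : v ∈ T F.ch o) (hne : v ≠ z) (hs : s ∈ CC (T F.ch o)) (hsQ : s ∈ Q) :
    s ∈ (geo F.ch o).KK (T F.ch o) v ↔ ∃ a b, IvP (eta v) a ∧ a ∈ W16 o ∧ b ∈ W8 o ∧ eta s = a + b := by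
  have Fo := facts ho
  have hvX : v ∈ pre F.ch (W8 o) := Cfsg.Agent.H848.TenB.mem_pre_W8 F.ch hvQ hvT
  have h4 : IsType 4 (eta v) := by
    obtain ⟨g, rfl⟩ := hv
    exact Cfsg.Agent.MonsterU.Fused.type_four_of_conj F.ch hvQ hne
  obtain ⟨-, -, -, c, hcN, hcz, rfl, -⟩ := Cfsg.Agent.H848.TenC.conj_of_type_four F.ch Fo F.hyQ F.hy F.τz F.τy hE hvX h4
  obtain ⟨c, rfl⟩ : ∃ c' : Subgroup.centralizer ({z} : Set G), (c' : G) = c :=
    ⟨⟨c, Subgroup.mem_centralizer_singleton_iff.2 hcz⟩, rfl⟩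
  have hcO : pi c ∈ CO o := (Cfsg.Agent.H848.TenC.mem_N_iff F.ch Fo F.hyQ F.hy F.τz F.τy hE c).1 hcN
  have hcO' : (pi c)⁻¹ ∈ CO o := Subgroup.inv_mem _ hcO
  have hf : pi c • f0 = eta ((c : G) * y * (c : G)⁻¹) := by rw [F.ch.eta_conj c y F.hyQ, F.hy]
  have hcj := cj_of_norm Fo F hE hcN
  have hs'Q := conj_inv_mem F.ch c hsQ
  have es : (c : G) * ((c : G)⁻¹ * s * c) * (c : G)⁻¹ = s := by group
  have hs'C : (c : G)⁻¹ * s * c ∈ CC (T F.ch o) := by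
    rw [← CC_conj_iff (k := (c : G)), hcj, es]; exact hs
  have h1 : s ∈ (geo F.ch o).KK (T F.ch o) ((c : G) * y * (c : G)⁻¹) ↔
      (c : G)⁻¹ * s * c ∈ (geo F.ch o).KK (T F.ch o) y := by
    have h2 := KK_conj_iff (h := F.ch) (o := o) (k := (c : G)) (v := y) (x := (c : G)⁻¹ * s * c) (O := T F.ch o)
    rwa [hcj, es] at h2
  rw [h1, mem_KK_y ho F hE hs'C hs'Q, eta_conj_inv F.ch c hsQ]
  constructor
  · intro h2
    obtain ⟨a, ha, b, hb, hab⟩ := AddSubgroup.mem_sup.1 h2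
    refine ⟨pi c • a, pi c • b, ?_, Cfsg.Agent.H848.Oct.CO_mem_W16 hcO ha.2, Cfsg.Agent.H848.Oct.CO_mem_W8 hcO hb, ?_⟩
    · rw [IvP_iff hf, inv_smul_smul]; exact ha.1
    · rw [← smul_add, hab, smul_inv_smul]
  · rintro ⟨a, b, ha, ha', hb, hab⟩
    rw [hab, smul_add]
    exact AddSubgroup.add_mem_sup ⟨(IvP_iff hf).1 ha, Cfsg.Agent.H848.Oct.CO_mem_W16 hcO' ha'⟩
      (Cfsg.Agent.H848.Oct.CO_mem_W8 hcO' hb)

end Cfsg.Agent.R2.H4.Mon.IvLink
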