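import Cfsg.Agent.R2.H4.Mon.ArkStd
import Cfsg.Agent.H819.MonLower

/-!
# The fact (L*) on an ark and two collinear points
-/

set_option autoImplicit false
set_option linter.unusedSectionVars false

open Cfsg

namespace Cfsg.Agent.R2.H4.Mon.LStar

open Cfsg.Agent.SporadicA.Co1Simple (allOne)
open Cfsg.Agent.SporadicA.Co0Mono (signCo0)
open Cfsg.Agent.SporadicStructure.LeechBase (zmod2_cases red)
open Cfsg.Agent.CoOneType.SignFacts
open Cfsg.Agent.CoOneType.CoOneE (pr pr_surjective E mem_E isConj_of_wt wt_of_isConj allOne_add_self sup_zero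
  wt_eq_zero sup_add wt_add sup_inj)
open Cfsg.Agent.MonsterU.Lam2 (L2 IsType cl cl_surjective neg_eq bf bf_cl)
open Cfsg.Agent.MonsterU.CoFrame
open Cfsg.Agent.MonsterU.CoFrameAct
open Cfsg.Agent.MonsterU.CoFrameL2
open Cfsg.Agent.MonsterU.CoFrameIrr (hwHom)
open Cfsg.Agent.MonsterU.AmalGen (pre mem_pre EE pi_mem_F_iff pre_W1 z_mem_pre comm_y dot_duad)
open Cfsg.Agent.MonsterU.AmalInf (AA mem_AA CA mem_CA Einf Eτ mem_EE_iff exists_CA_of_E)
open Cfsg.Agent.MonsterU.Ch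
open Cfsg.Agent.H848.Oct (eps eps_mul_eps W16 W8 mem_W16 CO mem_CO perp_W8 W8_le_W16)
open Cfsg.Agent.H848.TrioU (pairL pairL_cl)
open Cfsg.Agent.H848.TenB (T mem_T pre_W8_le)
open Cfsg.Agent.R2.H4.Mon.Golay
open Cfsg.Agent.R2.H4.Mon.KeyGrp
open Cfsg.Agent.R2.H4.Mon.Frm
open Cfsg.Agent.R2.H4.Mon.GeoInst
open Cfsg.Agent.R2.H4.Mon.GeoConj
open Cfsg.Agent.R2.H4.Mon.ArkStd
open Cfsg.Agent.R2.M7
open Cfsg.Agent.R2.M7.Geo (cj CC)
open Cfsg.Spor (Co1)

/-! ### Words -/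

theorem eq_allOne {c : golayCode} (h : wt c = 24) : c = allOne := by
  have h1 := wt_add_allOne c
  have h2 : wt (c + allOne) = 0 := by omega
  exact Golay.add_eq_zero_iff.1 (wt_eq_zero _ h2)

/-- words disjoint from an octad -/
theorem wt_of_disj {o c : golayCode} (ho : wt o = 8) (h : sup c ∩ sup o = ∅) :
    c = 0 ∨ wt c = 8 ∨ c = o + allOne := by
  have h1 := wt_add c o
  rw [h, Finset.card_empty] at h1
  have h2 := wt_cases c
  have h3 := wt_cases (c + o)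
  rcases h2 with h2 | h2 | h2 | h2 | h2
  · exact Or.inl (wt_eq_zero c h2)
  · exact Or.inr (Or.inl h2)
  · omega
  · right; right
    have h4 : c + o = allOne := eq_allOne (by omega)
    have h5 : c + o + o = allOne + o := by rw [h4]
    rw [add_assoc, Golay.add_self, add_zero] at h5
    rw [h5, add_comm]
  · omega

/-- two words disjoint from an octad with product in the code -/
theorem two_disj {o c d : golayCode} (ho : wt o = 8) (hc : sup c ∩ sup o = ∅) (hd : sup d ∩ sup o = ∅)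
    (hcd : mulw c d ∈ golayCode) : c = 0 ∨ c = o + allOne ∨ d = 0 ∨ d = o + allOne ∨ c = d ∨ c + d = o + allOne := by
  rcases wt_of_disj ho hc with h1 | h1 | h1
  · exact Or.inl h1
  · rcases wt_of_disj ho hd with h2 | h2 | h2
    · exact Or.inr (Or.inr (Or.inl h2))
    · rcases cst_of_mulw h2 hcd with h3 | h3
      · right; right; right; right; right
        have h4 : sup (c + d) ∩ sup o = ∅ := by
          rw [Finset.eq_empty_iff_forall_notMem]
          intro i hi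
          rw [Finset.mem_inter, sup_add, Finset.mem_symmDiff] at hi
          rcases hi.1 with h5 | h5
          · exact Finset.notMem_empty i (hc ▸ Finset.mem_inter.2 ⟨h5.1, hi.2⟩)
          · exact Finset.notMem_empty i (hd ▸ Finset.mem_inter.2 ⟨h5.1, hi.2⟩)
        have h5 := wt_add c d
        rw [h3, Finset.card_empty] at h5
        rcases wt_of_disj ho h4 with h6 | h6 | h6
        · rw [h6] at h5
          have : wt (0 : golayCode) = 0 := by unfold wt; rw [sup_zero, Finset.card_empty]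
          omega
        · omega
        · exact h6
      · right; right; right; right; left
        apply sup_inj
        symm
        exact Finset.eq_of_subset_of_card_le h3 (by
          have e1 : (sup c).card = wt c := rfl
          have e2 : (sup d).card = wt d := rfl
          omega)
    · exact Or.inr (Or.inr (Or.inr (Or.inl h2)))
  · exact Or.inr (Or.inl h1)

/-- the words `0, 1, o, o + 1` -/
def Sm (o c : golayCode) : Prop := c = 0 ∨ c = allOne ∨ c = o ∨ c = o + allOne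

theorem add_allOne_allOne (c : golayCode) : c + allOne + allOne = c := by
  rw [add_assoc, allOne_add_self, add_zero]

theorem Sm.of_add {o c : golayCode} (h : Sm o (c + allOne)) : Sm o c := by
  have e : ∀ x : golayCode, c + allOne = x → c = x + allOne := by
    intro x hx
    rw [← hx, add_allOne_allOne]
  rcases h with h | h | h | h
  · right; left; rw [e _ h, zero_add]
  · left; rw [e _ h, allOne_add_self]
  · right; right; right; exact e _ h
  · right; right; left; rw [e _ h, add_allOne_allOne]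

theorem mulw_add_allOne {c d : golayCode} (h : mulw c d ∈ golayCode) : mulw (c + allOne) d ∈ golayCode := by
  have e : mulw (c + allOne) d = mulw c d + (d : GolayPt → ZMod 2) := by
    funext i
    show ((c : GolayPt → ZMod 2) i + 1) * (d : GolayPt → ZMod 2) i =
      (c : GolayPt → ZMod 2) i * (d : GolayPt → ZMod 2) i + (d : GolayPt → ZMod 2) i
    ring
  rw [e]
  exact golayCode.add_mem h d.2

theorem mulw_add_allOne' {c d : golayCode} (h : mulw c d ∈ golayCode) : mulw c (d + allOne) ∈ golayCode := by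
  rw [mulw_comm] at h ⊢
  exact mulw_add_allOne h

/-- the word or its complement is disjoint from the octad -/
theorem disj_or {o c : golayCode} (ho : wt o = 8) (h : mulw c o ∈ golayCode) :
    sup c ∩ sup o = ∅ ∨ sup (c + allOne) ∩ sup o = ∅ := by
  rcases cst_of_mulw ho h with h1 | h1
  · exact Or.inl h1
  · right
    rw [sup_add_allOne, Finset.eq_empty_iff_forall_notMem]
    intro i hi
    rw [Finset.mem_inter, Finset.mem_compl] at hi
    exact hi.1 (h1 hi.2)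

/-- **Three words.** -/
theorem words {o c d : golayCode} (ho : wt o = 8) (hc : mulw c o ∈ golayCode) (hd : mulw d o ∈ golayCode)
    (hcd : mulw c d ∈ golayCode) : Sm o c ∨ Sm o d ∨ Sm o (c + d) := by
  have key : ∀ c d : golayCode, sup c ∩ sup o = ∅ → sup d ∩ sup o = ∅ → mulw c d ∈ golayCode →
      Sm o c ∨ Sm o d ∨ Sm o (c + d) := by
    intro c d hc hd hcd
    rcases two_disj ho hc hd hcd with h | h | h | h | h | h
    · exact Or.inl (Or.inl h)
    · exact Or.inl (Or.inr (Or.inr (Or.inr h)))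
    · exact Or.inr (Or.inl (Or.inl h))
    · exact Or.inr (Or.inl (Or.inr (Or.inr (Or.inr h))))
    · right; right; left
      rw [h, Golay.add_self]
    · exact Or.inr (Or.inr (Or.inr (Or.inr (Or.inr h))))
  rcases disj_or ho hc with h1 | h1
  · rcases disj_or ho hd with h2 | h2
    · exact key c d h1 h2 hcd
    · rcases key c (d + allOne) h1 h2 (mulw_add_allOne' hcd) with h | h | h
      · exact Or.inl h
      · exact Or.inr (Or.inl h.of_add)
      · rw [← add_assoc] at h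
        exact Or.inr (Or.inr h.of_add)
  · rcases disj_or ho hd with h2 | h2
    · rcases key (c + allOne) d h1 h2 (mulw_add_allOne hcd) with h | h | h
      · exact Or.inl h.of_add
      · exact Or.inr (Or.inl h)
      · have e : c + allOne + d = c + d + allOne := by abel
        rw [e] at h
        exact Or.inr (Or.inr h.of_add)
    · rcases key (c + allOne) (d + allOne) h1 h2 (mulw_add_allOne' (mulw_add_allOne hcd)) with h | h | h
      · exact Or.inl h.of_add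
      · exact Or.inr (Or.inl h.of_add)
      · have e : c + allOne + (d + allOne) = c + d + allOne + allOne := by abel
        rw [e] at h
        exact Or.inr (Or.inr h.of_add.of_add)

theorem eps_of_Sm {o c : golayCode} (h : Sm o c) : eps c = 1 ∨ eps c = eps o := by
  rcases h with h | h | h | h <;> rw [h]
  · left; exact eps_zero
  · left; exact eps_allOne
  · right; rfl
  · right; exact eps_add_allOne o

/-! ### The word of a vector and the form -/

theorem bf_duad {v : leechLattice} (hv : v ∈ V23) (i j : GolayPt) :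
    bf (cl v) (cl (duad i j)) = hw v i + hw v j := by
  rw [bf_cl, Cfsg.Agent.MonsterU.Lam2.b0, dot_duad, hw_apply, hw_apply]
  obtain ⟨a, ha⟩ := hv i
  obtain ⟨b, hb⟩ := hv j
  rw [ha, hb]
  have e1 : 4 * (2 * a - 2 * b) / 8 = a - b := by omega
  have e2 : 2 * a / 2 = a := by omega
  have e3 : 2 * b / 2 = b := by omega
  rw [e1, e2, e3, Int.cast_sub, sub_eq_add_neg]
  congr 1
  exact CharTwo.neg_eq _

theorem eq_or_add_allOne {c d : golayCode}
    (h : ∀ i, (c : GolayPt → ZMod 2) i + (c : GolayPt → ZMod 2) none = (d : GolayPt → ZMod 2) i + (d : GolayPt → ZMod 2) none) :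
    eps c = eps d := by
  rw [eps_eq_iff]
  have key : ∀ a b a' b' : ZMod 2, a + b = a' + b' → (b = b' → a' = a) ∧ (b ≠ b' → a' = a + 1) := by decide
  by_cases h0 : (c : GolayPt → ZMod 2) none = (d : GolayPt → ZMod 2) none
  · left
    apply Subtype.ext
    funext i
    exact (key _ _ _ _ (h i)).1 h0
  · right
    apply Subtype.ext
    funext i
    exact (key _ _ _ _ (h i)).2 h0

/-- a vector over the octad -/
theorem exists_oct_vec {o : golayCode} (ho : wt o = 8) :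
    ∃ (v : leechLattice) (hv : v ∈ V23), cl v ∈ W8 o ∧ hwHom ⟨v, hv⟩ = o := by
  classical
  let f : GolayPt → ℤ := fun i => if i ∈ sup o then 1 else 0
  have hred : red f = (o : GolayPt → ZMod 2) := by
    funext i
    show ((if i ∈ sup o then (1 : ℤ) else 0 : ℤ) : ZMod 2) = _
    by_cases hi : i ∈ sup o
    · rw [if_pos hi, (mem_sup o i).1 hi]; rfl
    · rw [if_neg hi, (notMem_sup o i).1 hi]; rfl
  have hsum : ∑ i, f i = 8 := by
    show ∑ i, (if i ∈ sup o then (1 : ℤ) else 0) = 8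
    rw [← Finset.sum_filter, Finset.sum_const]
    have e : (Finset.univ.filter fun i => i ∈ sup o) = sup o := by ext i; simp
    rw [e]
    have e2 : (sup o).card = 8 := ho
    rw [e2]; norm_num
  let v : leechLattice := ⟨fun i => 2 * f i, Cfsg.Agent.SporadicStructure.Co0Base.two_mul_mem f
    (by rw [hred]; exact o.2) (by rw [hsum]; norm_num)⟩
  have hv : v ∈ V23 := (mem_V23 v).2 fun i => dvd_mul_right _ _
  refine ⟨v, hv, ?_, ?_⟩
  · apply Cfsg.Agent.H813.OctLat.mem_W8_of_supp ho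
    intro i hi
    show 2 * (if i ∈ sup o then (1 : ℤ) else 0) = 0
    rw [if_neg hi, mul_zero]
  · apply Subtype.ext
    funext i
    show (((2 * f i) / 2 : ℤ) : ZMod 2) = _
    rw [Int.mul_ediv_cancel_left _ (by norm_num)]
    exact congrFun hred i

/-! ### The frame -/

variable {G : Type*} [Group G] {Q : Subgroup G} {z : G} {eta : G → L2}
  {pi : Subgroup.centralizer ({z} : Set G) →* Co1} {y τ : G} {o : golayCode}

theorem tauH (F : Fr Q z eta pi y τ) (hE : TE F.ch τ) : Cfsg.Agent.H819.MonLower.Tau F.ch y τ :=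
  ⟨F.hyQ, F.hy, F.τz, F.τy, hE⟩

/-- **The image of a conjugate.** -/
theorem word_conj {h : Chart Q z eta pi} (H : Cfsg.Agent.H819.MonLower.Tau h y τ) {q : G} (hq : q ∈ Q)
    {v : leechLattice} (hv : v ∈ V23) (hqv : cl v = eta q)
    (hc : τ * q * τ⁻¹ ∈ Subgroup.centralizer ({z} : Set G)) : pi ⟨τ * q * τ⁻¹, hc⟩ = eps (hwHom ⟨v, hv⟩) := by
  have h23 : eta q ∈ W23 := by rw [← hqv]; exact cl_mem_W23.2 hv
  have hCA := H.mem_CA hq h23
  obtain ⟨c, hpi⟩ := Cfsg.Agent.MonsterU.AmalInf.pi_CA_mem_E h H.hyQ H.hy H.τz H.τy hCA hc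
  rw [hpi]
  apply eq_or_add_allOne
  intro i
  have h1 := Cfsg.Agent.H819.MonLower.pi_conj H hq h23 hc hpi (u := cl (duad i none)) (cl_mem_W12.2 (duad_mem _ _))
  rw [pairL_cl, pair_duad, ← hqv, bf_duad hv] at h1
  exact h1

theorem mem_cent_z (h : Chart Q z eta pi) {q : G} (hq : q ∈ Q) : q ∈ Subgroup.centralizer ({z} : Set G) :=
  Subgroup.mem_centralizer_singleton_iff.2 (h.large.comm_z q hq)

/-- **The diagonal.** -/
theorem diag (F : Fr Q z eta pi y τ) (hE : TE F.ch τ) (h3 : τ * τ * τ = 1) {q : G} (hq : q ∈ Q)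
    (h23 : eta q ∈ W23) : q * (τ * q * τ⁻¹) ∈ QQ Q z (z * y) := by
  obtain ⟨v, hqv⟩ := cl_surjective (eta q)
  have hv : v ∈ V23 := by rw [← cl_mem_W23, hqv]; exact h23
  have H := tauH F hE
  have hc1 : τ * q * τ⁻¹ ∈ Subgroup.centralizer ({z} : Set G) := (H.mem_CA hq h23).2
  have hc2 : τ⁻¹ * q * τ⁻¹⁻¹ ∈ Subgroup.centralizer ({z} : Set G) := (H.inv.mem_CA hq h23).2
  have w1 := word_conj H hq hv hqv hc1
  have w2 := word_conj H.inv hq hv hqv hc2
  rw [inv_inv] at hc2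
  have w2' : pi ⟨τ⁻¹ * q * τ, hc2⟩ = eps (hwHom ⟨v, hv⟩) := by
    rw [← w2]
    congr 2
    rw [inv_inv]
  have hqz := mem_cent_z F.ch hq
  have w0 : pi ⟨q, hqz⟩ = 1 := (F.ch.pi_eq_one ⟨q, hqz⟩).2 hq
  -- the element `f`
  have hfQ : (τ⁻¹ * q * τ)⁻¹ * (q * (τ * q * τ⁻¹)) ∈ Q := by
    have h1 : pi (⟨τ⁻¹ * q * τ, hc2⟩⁻¹ * (⟨q, hqz⟩ * ⟨τ * q * τ⁻¹, hc1⟩)) = 1 := by
      rw [map_mul, map_inv, map_mul, w2', w0, w1, one_mul, inv_mul_cancel]
    exact (F.ch.pi_eq_one _).1 h1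
  have hfA : (τ⁻¹ * q * τ)⁻¹ * (q * (τ * q * τ⁻¹)) ∈ AA Q τ := by
    rw [mem_AA]
    have h1 : pi (⟨τ * q * τ⁻¹, hc1⟩⁻¹ * (⟨τ⁻¹ * q * τ, hc2⟩ * ⟨q, hqz⟩)) = 1 := by
      rw [map_mul, map_inv, map_mul, w2', w0, w1, mul_one, inv_mul_cancel]
    have h2 := (F.ch.pi_eq_one _).1 h1
    have e1 : τ⁻¹ = τ * τ := inv_eq_of_mul_eq_one_left h3
    have e : τ⁻¹ * ((τ⁻¹ * q * τ)⁻¹ * (q * (τ * q * τ⁻¹))) * τ =
        (τ * q * τ⁻¹)⁻¹ * (τ⁻¹ * q * τ * q) := by
      have e2 : τ⁻¹ * (τ⁻¹ * q * τ) * τ = τ * q * τ⁻¹ := by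
        have e3 : τ⁻¹ * τ⁻¹ = τ := by
          calc τ⁻¹ * τ⁻¹ = (τ * τ)⁻¹ := by group
            _ = τ := by rw [← e1, inv_inv]
        calc τ⁻¹ * (τ⁻¹ * q * τ) * τ = (τ⁻¹ * τ⁻¹) * q * (τ * τ) := by group
          _ = τ * q * τ⁻¹ := by rw [e3, ← e1]
      calc τ⁻¹ * ((τ⁻¹ * q * τ)⁻¹ * (q * (τ * q * τ⁻¹))) * τ
          = (τ⁻¹ * (τ⁻¹ * q * τ) * τ)⁻¹ * (τ⁻¹ * q * τ * q) := by group
        _ = _ := by rw [e2]
    rw [e]
    exact h2
  have hfE : (τ⁻¹ * q * τ)⁻¹ * (q * (τ * q * τ⁻¹)) ∈ EE F.ch :=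
    (mem_EE_iff F.ch F.hyQ F.hy F.τz F.τy).2 ⟨hfQ, hfA⟩
  have hs : τ⁻¹ * q * τ ∈ QQ Q z (z * y) := by
    have e1 : τ⁻¹ * z * τ⁻¹⁻¹ = z * y := by
      rw [inv_inv]; exact Cfsg.Agent.MonsterU.AmalInf.τz' F.ch F.hyQ F.hy F.τz F.τy
    rw [QQ_eq F.ch.large e1, mem_AA]
    have e : τ⁻¹⁻¹ * (τ⁻¹ * q * τ) * τ⁻¹ = q := by group
    rw [e]; exact hq
  have h4 := Subgroup.mul_mem _ hs (Types.EE_le F hfE).2
  have e : τ⁻¹ * q * τ * ((τ⁻¹ * q * τ)⁻¹ * (q * (τ * q * τ⁻¹))) = q * (τ * q * τ⁻¹) := by group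
  rwa [e] at h4

/-- `T ≤ C(T)` -/
theorem T_le_CC [Finite G] (Fo : Cfsg.Agent.H848.TenA.Facts o) (F : Fr Q z eta pi y τ) (hE : TE F.ch τ) :
    T F.ch o ≤ CC (T F.ch o) := by
  intro t ht
  rw [mem_CC]
  intro a ha
  exact Cfsg.Agent.H848.TenB.ab_T F.ch Fo F.hyQ F.hy F.τz F.τy hE ha ht

/-- **(L*), standard position.** -/
theorem lstar_std [Finite G] (ho : wt o = 8) (F : Fr Q z eta pi y τ) (hE : TE F.ch τ) (h3 : τ * τ * τ = 1) {q r : G}
    (hq : q ∈ CC (T F.ch o)) (hqQ : q ∈ Q) (hr : r ∈ CC (T F.ch o)) (hrQ : r ∈ QQ Q z y) (hqr : q * r = r * q) :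
    q ∈ (geo F.ch o).KK (T F.ch o) y ∨ r ∈ (geo F.ch o).KK (T F.ch o) z ∨
      q * r ∈ (geo F.ch o).KK (T F.ch o) (z * y) := by
  have Fo := facts ho
  have H := tauH F hE
  have hL := F.ch.large
  have hTC := T_le_CC Fo F hE
  have hyT : y ∈ T F.ch o := GeoInst.y_mem_T Fo F hE
  have hzT : z ∈ T F.ch o := GeoInst.z_mem_T Fo F hE
  have hτN := Cfsg.Agent.H848.TenC.tau_mem_N F.ch Fo F.hyQ F.hy F.τz F.τy hE
  have hCCτ : ∀ x, x ∈ CC (T F.ch o) → τ * x * τ⁻¹ ∈ CC (T F.ch o) := by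
    intro x hx
    have h1 := (CC_conj_iff (k := τ) (x := x) (O := T F.ch o)).2 hx
    rwa [cj_of_norm Fo F hE hτN] at h1
  have hCCτ' : ∀ x, x ∈ CC (T F.ch o) → τ⁻¹ * x * τ ∈ CC (T F.ch o) := by
    intro x hx
    have h1 := CC_conj_iff (k := τ) (x := τ⁻¹ * x * τ) (O := T F.ch o)
    rw [cj_of_norm Fo F hE hτN] at h1
    have e : τ * (τ⁻¹ * x * τ) * τ⁻¹ = x := by group
    rw [e] at h1
    exact h1.1 hx
  -- the word of `q`
  have hqy : q * y = y * q := (mem_CC.1 hq y hyT).symm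
  have hq23 : eta q ∈ W23 := (comm_y F.ch F.hyQ F.hy hqQ).1 hqy
  obtain ⟨v, hqv⟩ := cl_surjective (eta q)
  have hv : v ∈ V23 := by rw [← cl_mem_W23, hqv]; exact hq23
  have hco : mulw (hwHom ⟨v, hv⟩) o ∈ golayCode := by
    rw [mulw_comm]
    apply mulw_mem hv
    rw [hqv]
    exact (CC_T_Q F.ch hqQ).1 hq
  -- the word of `r`
  have hrA : r ∈ AA Q τ := by rw [← F.QQ_y]; exact hrQ
  have hr'Q : τ⁻¹ * r * τ ∈ Q := mem_AA.1 hrA
  have hr'C := hCCτ' r hr
  have hr'23 : eta (τ⁻¹ * r * τ) ∈ W23 :=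
    (comm_y F.ch F.hyQ F.hy hr'Q).1 (mem_CC.1 hr'C y hyT).symm
  obtain ⟨v', hrv⟩ := cl_surjective (eta (τ⁻¹ * r * τ))
  have hv' : v' ∈ V23 := by rw [← cl_mem_W23, hrv]; exact hr'23
  have hdo : mulw (hwHom ⟨v', hv'⟩) o ∈ golayCode := by
    rw [mulw_comm]
    apply mulw_mem hv'
    rw [hrv]
    exact (CC_T_Q F.ch hr'Q).1 hr'C
  have hrz : r ∈ Subgroup.centralizer ({z} : Set G) :=
    Subgroup.mem_centralizer_singleton_iff.2 (mem_CC.1 hr z hzT).symm
  have er : τ * (τ⁻¹ * r * τ) * τ⁻¹ = r := by group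
  have hpir : pi ⟨r, hrz⟩ = eps (hwHom ⟨v', hv'⟩) := by
    rw [← word_conj H hr'Q hv' hrv (by rw [er]; exact hrz)]
    congr 2
    exact er.symm
  have hcd : mulw (hwHom ⟨v, hv⟩) (hwHom ⟨v', hv'⟩) ∈ golayCode := by
    rw [mulw_comm]
    apply mulw_mem hv
    rw [hqv, ← hpir, ← F.ch.eta_conj ⟨r, hrz⟩ q hqQ]
    congr 1
    show r * q * r⁻¹ = q
    rw [← hqr]; group
  rcases words ho hco hdo hcd with h | h | h
  · -- `q ∈ KK y`
    left
    rw [mem_KK]
    have hcase : eta q ∈ W12 ∨ (hwHom ⟨v, hv⟩ = o ∨ hwHom ⟨v, hv⟩ = o + allOne) := by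
      rcases h with h | h | h | h
      · left; rw [← hqv, cl_mem_W12, mem_V12_iff_hw hv]
        left; exact congrArg Subtype.val h
      · left; rw [← hqv, cl_mem_W12, mem_V12_iff_hw hv]
        right; exact congrArg Subtype.val h
      · exact Or.inr (Or.inl h)
      · exact Or.inr (Or.inr h)
    rcases hcase with h1 | h1
    · refine ⟨q, hq, ?_, 1, Subgroup.one_mem _, (mul_one q).symm⟩
      exact (Types.EE_le F ⟨hqQ, h1⟩).1
    · obtain ⟨u, hu, hu8, huo⟩ := exists_oct_vec ho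
      obtain ⟨p, hp, hpu⟩ := F.ch.eta_surj (cl u)
      have hpT : p ∈ T F.ch o := pre_W8_le F.ch ⟨hp, by rw [hpu]; exact hu8⟩
      have h2 : cl v - cl u ∈ W12 := by
        apply mem_W12_of_hw hv hu
        rw [huo]; exact h1
      have h3 : q * p ∈ EE F.ch := by
        refine ⟨Q.mul_mem hqQ hp, ?_⟩
        rw [F.ch.eta_mul q hqQ p hp, ← hqv, hpu]
        rwa [sub_eq_add_neg, neg_eq] at h2
      refine ⟨q * p, Subgroup.mul_mem _ hq (hTC hpT), (Types.EE_le F h3).1, p⁻¹, Subgroup.inv_mem _ hpT, ?_⟩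
      group
  · -- `r ∈ KK z`
    right; left
    rw [mem_KK, geo_QQ, F.QQ_z]
    rcases eps_of_Sm h with h1 | h1
    · refine ⟨r, hr, ?_, 1, Subgroup.one_mem _, (mul_one r).symm⟩
      exact (F.ch.pi_eq_one ⟨r, hrz⟩).1 (by rw [hpir, h1])
    · obtain ⟨t, ht, htC, htQ, -⟩ := Cfsg.Agent.H848.TenB.exists_t0 F.ch Fo F.hyQ F.hy F.τz F.τy hE
      have hpt : pi ⟨t, htC.2⟩ = eps o :=
        (Cfsg.Agent.H848.TenB.pi_T F.ch Fo (c := ⟨t, htC.2⟩) ht).resolve_left fun h1 => htQ ((F.ch.pi_eq_one _).1 h1)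
      refine ⟨r * t, Subgroup.mul_mem _ hr (hTC ht), ?_, t⁻¹, Subgroup.inv_mem _ ht, by group⟩
      have h2 : pi (⟨r, hrz⟩ * ⟨t, htC.2⟩) = 1 := by rw [map_mul, hpir, h1, hpt, eps_mul_eps]
      exact (F.ch.pi_eq_one _).1 h2
  · -- `q r ∈ KK (zy)`
    right; right
    rw [mem_KK]
    have hr1CA := H.mem_CA hqQ hq23
    have hr1z : τ * q * τ⁻¹ ∈ Subgroup.centralizer ({z} : Set G) := hr1CA.2
    have w1 := word_conj H hqQ hv hqv hr1z
    have hd := diag F hE h3 hqQ hq23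
    have hr1C := hCCτ q hq
    have hpe : pi (⟨τ * q * τ⁻¹, hr1z⟩⁻¹ * ⟨r, hrz⟩) = eps (hwHom ⟨v, hv⟩ + hwHom ⟨v', hv'⟩) := by
      rw [map_mul, map_inv, w1, hpir, eps_add]
      congr 1
    have heA : (τ * q * τ⁻¹)⁻¹ * r ∈ AA Q τ := Subgroup.mul_mem _ (Subgroup.inv_mem _ hr1CA.1) hrA
    have heC : (τ * q * τ⁻¹)⁻¹ * r ∈ CC (T F.ch o) := Subgroup.mul_mem _ (Subgroup.inv_mem _ hr1C) hr
    rcases eps_of_Sm h with h1 | h1
    · have heQ : (τ * q * τ⁻¹)⁻¹ * r ∈ Q := (F.ch.pi_eq_one _).1 (hpe.trans h1)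
      have heE : (τ * q * τ⁻¹)⁻¹ * r ∈ EE F.ch := (mem_EE_iff F.ch F.hyQ F.hy F.τz F.τy).2 ⟨heQ, heA⟩
      refine ⟨q * r, Subgroup.mul_mem _ hq hr, ?_, 1, Subgroup.one_mem _, (mul_one _).symm⟩
      have h4 := Subgroup.mul_mem _ hd (Types.EE_le F heE).2
      have e : q * (τ * q * τ⁻¹) * ((τ * q * τ⁻¹)⁻¹ * r) = q * r := by group
      rwa [e] at h4
    · obtain ⟨t, ht, htC, htQ, -⟩ := Cfsg.Agent.H848.TenB.exists_t0 F.ch Fo F.hyQ F.hy F.τz F.τy hE
      have hpt : pi ⟨t, htC.2⟩ = eps o :=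
        (Cfsg.Agent.H848.TenB.pi_T F.ch Fo (c := ⟨t, htC.2⟩) ht).resolve_left fun h1 => htQ ((F.ch.pi_eq_one _).1 h1)
      have heQ : (τ * q * τ⁻¹)⁻¹ * r * t ∈ Q := by
        have h2 : pi (⟨τ * q * τ⁻¹, hr1z⟩⁻¹ * ⟨r, hrz⟩ * ⟨t, htC.2⟩) = 1 := by
          rw [map_mul, hpe, h1, hpt, eps_mul_eps]
        exact (F.ch.pi_eq_one _).1 h2
      have heE : (τ * q * τ⁻¹)⁻¹ * r * t ∈ EE F.ch :=
        (mem_EE_iff F.ch F.hyQ F.hy F.τz F.τy).2 ⟨heQ, Subgroup.mul_mem _ heA htC.1⟩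
      refine ⟨q * r * t, Subgroup.mul_mem _ (Subgroup.mul_mem _ hq hr) (hTC ht), ?_, t⁻¹,
        Subgroup.inv_mem _ ht, by group⟩
      have h4 := Subgroup.mul_mem _ hd (Types.EE_le F heE).2
      have e : q * (τ * q * τ⁻¹) * ((τ * q * τ⁻¹)⁻¹ * r * t) = q * r * t := by group
      rwa [e] at h4

/-- **(L*)** -/
theorem lstar [Finite G] (ho : wt o = 8) (F₀ : Fr Q z eta pi y τ) :
    ∀ O ∈ (geo F₀.ch o).Ark, ∀ c ∈ O, c ∈ (geo F₀.ch o).Pt → ∀ v ∈ O, v ∈ (geo F₀.ch o).Pt →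
      v ∈ (geo F₀.ch o).QQ c → v ≠ c →
      ∀ q ∈ CC O, q ∈ (geo F₀.ch o).QQ c → ∀ r ∈ CC O, r ∈ (geo F₀.ch o).QQ v → q * r = r * q →
      q ∈ (geo F₀.ch o).KK O v ∨ r ∈ (geo F₀.ch o).KK O c ∨ q * r ∈ (geo F₀.ch o).KK O (c * v) := by
  intro O hO c hc hcP v hv hvP hvc hne q hq hqQ r hr hrQ hqr
  obtain ⟨τ', F, hE, h3⟩ := Fr.exists_TE3 F₀
  obtain ⟨k, rfl, rfl, rfl⟩ := std2 (facts ho) F hE hO hc hcP hv hvP hvc hne
  obtain ⟨q', rfl⟩ : ∃ q', q = k * q' * k⁻¹ := ⟨k⁻¹ * q * k, by group⟩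
  obtain ⟨r', rfl⟩ : ∃ r', r = k * r' * k⁻¹ := ⟨k⁻¹ * r * k, by group⟩
  rw [CC_conj_iff] at hq hr
  rw [QQ_conj_iff, geo_QQ] at hqQ hrQ
  rw [F.QQ_z] at hqQ
  have e1 : k * z * k⁻¹ * (k * y * k⁻¹) = k * (z * y) * k⁻¹ := by group
  have e2 : k * q' * k⁻¹ * (k * r' * k⁻¹) = k * (q' * r') * k⁻¹ := by group
  have hqr' : q' * r' = r' * q' := by
    apply conj_injective k
    show k * (q' * r') * k⁻¹ = k * (r' * q') * k⁻¹
    rw [← e2, hqr]; group
  rw [e1, e2, KK_conj_iff, KK_conj_iff, KK_conj_iff]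
  exact lstar_std ho F hE h3 hq hqQ hr hrQ hqr'

end Cfsg.Agent.R2.H4.Mon.LStar
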