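import Cfsg.Agent.R2.H4.Mon.Eight

/-!
# The singular subgroups: `MainB` from the existence of an ark
-/

set_option autoImplicit false
set_option linter.unusedSectionVars false

open Cfsg

namespace Cfsg.Agent.R2.H4.Mon.MainBTop

open Cfsg.Agent.CoOneType.SignFacts
open Cfsg.Agent.MonsterU.Lam2 (L2 IsType cl cl_surjective bf)
open Cfsg.Agent.MonsterU.CoFrameL2
open Cfsg.Agent.MonsterU.Ch
open Cfsg.Agent.H848.TenB (T)
open Cfsg.Agent.R2.H4.Mon.Frm
open Cfsg.Agent.R2.H4.Mon.GeoInst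
open Cfsg.Agent.R2.H4.Mon.GeoConj
open Cfsg.Agent.R2.H4.Mon.Eight
open Cfsg.Agent.R2.M7
open Cfsg.Agent.R2.M7.Geo (cj CC)
open Cfsg.Agent.R2.H8.Mon.Lat
open Cfsg.Agent.R2.H8.Mon.Sing
open Cfsg.Agent.R2.H8.Mon.Adj
open Cfsg.Spor (Co1)

variable {G : Type*} [Group G] {Q : Subgroup G} {z : G} {eta : G → L2}
  {pi : Subgroup.centralizer ({z} : Set G) →* Co1} {y τ : G} {o : golayCode}

/-- the normaliser of `F` normalises `L` -/
def Nor (F L : Subgroup G) : Prop := ∀ x : G, (∀ a ∈ F, x * a * x⁻¹ ∈ F) → ∀ a ∈ L, x * a * x⁻¹ ∈ L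

theorem Nor.rfl' (F : Subgroup G) : Nor F F := fun _ hx => hx

theorem Nor.cj {F L : Subgroup G} (h : Nor F L) (k : G) : Nor (cj k F) (cj k L) := by
  intro x hx a ha
  obtain ⟨a, ha', rfl⟩ : ∃ a' ∈ L, k * a' * k⁻¹ = a := ⟨k⁻¹ * a * k, mem_cj.1 ha, by group⟩
  have h1 := h (k⁻¹ * x * k) (fun b hb => by
    have h2 := hx (k * b * k⁻¹) (conj_mem_cj.2 hb)
    rw [mem_cj] at h2
    have e : k⁻¹ * (x * (k * b * k⁻¹) * x⁻¹) * k = k⁻¹ * x * k * b * (k⁻¹ * x * k)⁻¹ := by group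
    rwa [e] at h2) a ha'
  rw [mem_cj]
  have e : k⁻¹ * (x * (k * a * k⁻¹) * x⁻¹) * k = k⁻¹ * x * k * a * (k⁻¹ * x * k)⁻¹ := by group
  rwa [e]

theorem cj_eq_iff {k : G} {A B : Subgroup G} : cj k A = B ↔ A = cj k⁻¹ B := by
  constructor
  · rintro rfl
    rw [cj_cj, inv_mul_cancel, cj_one]
  · rintro rfl
    rw [cj_cj, mul_inv_cancel, cj_one]

/-- a normalising element -/
theorem cj_eq_of_norm [Finite G] {x : G} {F : Subgroup G} (hx : ∀ a ∈ F, x * a * x⁻¹ ∈ F) : cj x F = F := by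
  apply Subgroup.eq_of_le_of_card_ge
  · rintro _ ⟨a, ha, rfl⟩
    exact hx a ha
  · rw [card_cj]

theorem isPGroup_of_sq {L : Subgroup G} (h : ∀ x ∈ L, x * x = 1) : IsPGroup 2 L := by
  intro x
  refine ⟨1, ?_⟩
  apply Subtype.ext
  show (x : G) ^ (2 ^ 1) = 1
  rw [pow_one, pow_two]
  exact h x x.2

theorem card_cases_of_sq [Finite G] {L : Subgroup G} (h : ∀ x ∈ L, x * x = 1) :
    Nat.card L = 1 ∨ Nat.card L = 2 ∨ Nat.card L = 4 ∨ Nat.card L = 8 ∨ 8 < Nat.card L := by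
  obtain ⟨n, hn⟩ := IsPGroup.iff_card.1 (isPGroup_of_sq h)
  have h4 : 4 ≤ n → 2 ^ 4 ≤ 2 ^ n := fun h => Nat.pow_le_pow_right (by norm_num) h
  by_cases h0 : n < 4
  · interval_cases n <;> omega
  · have := h4 (by omega)
    omega

section

variable (ho : wt o = 8) (F : Fr Q z eta pi y τ) (hE : TE F.ch τ)
include ho F hE

/-- **The subgroups of order greater than 8.** -/
theorem big [Finite G] (hex : ∀ F₀ : Subgroup G, SF Q z y F₀ → 8 < Nat.card F₀ → ∃ O ∈ (geo F.ch o).Ark, F₀ ≤ O)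
    {F₀ : Subgroup G} (hpt : ∀ x ∈ F₀, x ≠ 1 → TwoB z x) (hcol : ∀ x ∈ F₀, x ≠ 1 → ∀ w ∈ F₀, w ∈ QQ Q z x)
    (hcard : 8 < Nat.card F₀) :
    (∃ g : G, Nor F₀ (cj g (T F.ch (ot 0) ⊓ T F.ch (ot 1)))) ∨ ∃ g : G, Nor F₀ (cj g (T F.ch o)) := by
  -- an ark
  have hex' : ∃ O ∈ (geo F.ch o).Ark, F₀ ≤ O := by
    obtain ⟨c, hc, x, hx, hc1, hx1, hxc⟩ := exists_two_elements (F₀ := F₀) (by omega)
    obtain ⟨k, S⟩ := exists_conj_SF F hpt hcol hc hc1 hx hx1 hxc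
    obtain ⟨O, hO, hle⟩ := hex _ S (by rw [card_cj]; exact hcard)
    refine ⟨cj k O, ark_conj_iff.2 hO, ?_⟩
    have h1 : cj k (cj k⁻¹ F₀) ≤ cj k O := Subgroup.map_mono hle
    rwa [cj_cj, mul_inv_cancel, cj_one] at h1
  obtain ⟨O₁, hO₁, h₁⟩ := hex'
  have hmv : ∀ {O : Subgroup G}, F₀ ≤ O → ∀ {x : G}, (∀ a ∈ F₀, x * a * x⁻¹ ∈ F₀) → F₀ ≤ cj x O := by
    intro O h x hx
    have h1 : cj x F₀ ≤ cj x O := Subgroup.map_mono h
    rwa [cj_eq_of_norm hx] at h1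
  by_cases huniq : ∀ O₂ ∈ (geo F.ch o).Ark, F₀ ≤ O₂ → O₁ = O₂
  · right
    obtain ⟨g, hg⟩ := hO₁
    refine ⟨g, ?_⟩
    intro x hx a ha
    have hg' : O₁ = cj g (T F.ch o) := hg
    rw [← hg'] at ha ⊢
    have h1 := huniq (cj x O₁) (ark_conj_iff.2 ⟨g, hg⟩) (hmv h₁ hx)
    have h2 : x * a * x⁻¹ ∈ cj x O₁ := conj_mem_cj.2 ha
    rwa [← h1] at h2
  · push Not at huniq
    obtain ⟨O₂, hO₂, h₂, hne⟩ := huniq
    left
    obtain ⟨g, hg₁, hg₂⟩ := pair_std ho F hE hO₁ hO₂ hne h₁ h₂ hcard hpt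
    refine ⟨g, ?_⟩
    rw [cj_inf, hg₁, hg₂]
    intro x hx a ha
    have hx₁ : cj x O₁ ∈ (geo F.ch o).Ark := ark_conj_iff.2 hO₁
    have hx₂ : cj x O₂ ∈ (geo F.ch o).Ark := ark_conj_iff.2 hO₂
    have hl₁ := hmv h₁ hx
    have hl₂ := hmv h₂ hx
    have hne' : cj x O₁ ≠ cj x O₂ := by
      intro h
      apply hne
      have h1 : cj x⁻¹ (cj x O₁) = cj x⁻¹ (cj x O₂) := by rw [h]
      rwa [cj_cj, cj_cj, inv_mul_cancel, cj_one, cj_one] at h1
    have heq : O₁ ⊓ O₂ = cj x O₁ ⊓ cj x O₂ := by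
      by_cases h12 : O₁ = cj x O₁
      · rw [← h12]
        exact inf_eq ho F hE hO₁ hO₂ hx₂ hne (by rw [h12]; exact hne') h₁ h₂ hl₂ hcard hpt
      · rw [inf_eq ho F hE hO₁ hO₂ hx₁ hne h12 h₁ h₂ hl₁ hcard hpt, inf_comm,
          inf_eq ho F hE hx₁ hO₁ hx₂ (Ne.symm h12) hne' hl₁ h₁ hl₂ hcard hpt]
    have h3 : x * a * x⁻¹ ∈ cj x (O₁ ⊓ O₂) := conj_mem_cj.2 ha
    rw [cj_inf, ← heq] at h3
    exact h3

open Classical in
/-- the representative of order 8 -/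
noncomputable def L8 (Q : Subgroup G) (z y : G) (D : Subgroup G) : Subgroup G :=
  if h : ∃ F₀ : Subgroup G, SF Q z y F₀ ∧ Nat.card F₀ = 8 then h.choose else D

/-- **`MainB`** -/
theorem mainB [Finite G]
    (hex : ∀ F₀ : Subgroup G, SF Q z y F₀ → 8 < Nat.card F₀ → ∃ O ∈ (geo F.ch o).Ark, F₀ ≤ O) :
    (geo F.ch o).MainB := by
  classical
  have hTsq : ∀ {o' : golayCode}, wt o' = 8 → ∀ x ∈ T F.ch o', x * x = 1 := fun ho' x hx =>
    Cfsg.Agent.H848.TenB.sq_T F.ch (facts ho') F.hyQ F.hy F.τz F.τy hE hx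
  have hzT : ∀ {o' : golayCode}, wt o' = 8 → z ∈ T F.ch o' := fun ho' => GeoInst.z_mem_T (facts ho') F hE
  have hyT : ∀ {o' : golayCode}, wt o' = 8 → y ∈ T F.ch o' := fun ho' => GeoInst.y_mem_T (facts ho') F hE
  have hzne := F.ch.large.z_ne
  have hnb : ∀ {L : Subgroup G}, z ∈ L → L ≠ ⊥ := by
    rintro L h rfl
    exact hzne (Subgroup.mem_bot.1 h)
  have hptsq : ∀ x : G, TwoB z x → x * x = 1 := by
    rintro _ ⟨g, rfl⟩
    calc g * z * g⁻¹ * (g * z * g⁻¹) = g * (z * z) * g⁻¹ := by group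
      _ = 1 := by rw [F.z_sq]; group
  have hzle : Subgroup.zpowers z ≤ T F.ch o := by rw [Subgroup.zpowers_le]; exact hzT ho
  have hcle : Subgroup.closure ({z, y} : Set G) ≤ T F.ch o := by
    rw [Subgroup.closure_le]
    rintro x (rfl | rfl)
    · exact hzT ho
    · exact hyT ho
  refine ⟨![Subgroup.zpowers z, Subgroup.closure {z, y}, L8 Q z y (T F.ch o), T F.ch (ot 0) ⊓ T F.ch (ot 1),
    T F.ch o], ?_, ?_, ?_⟩
  · intro i
    fin_cases i
    · exact ⟨hnb (Subgroup.mem_zpowers z), isPGroup_of_sq fun x hx => hTsq ho x (hzle hx)⟩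
    · exact ⟨hnb (Subgroup.subset_closure (Or.inl rfl)), isPGroup_of_sq fun x hx => hTsq ho x (hcle hx)⟩
    · show L8 Q z y (T F.ch o) ≠ ⊥ ∧ IsPGroup 2 (L8 Q z y (T F.ch o))
      by_cases h : ∃ F₀ : Subgroup G, SF Q z y F₀ ∧ Nat.card F₀ = 8
      · have e : L8 Q z y (T F.ch o) = h.choose := by unfold L8; rw [dif_pos h]
        rw [e]
        obtain ⟨hS, hc⟩ := h.choose_spec
        refine ⟨hnb hS.hz, isPGroup_of_sq fun x hx => ?_⟩
        by_cases h1 : x = 1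
        · rw [h1, mul_one]
        · exact hptsq x (hS.pt x hx h1)
      · have e : L8 Q z y (T F.ch o) = T F.ch o := by unfold L8; rw [dif_neg h]
        rw [e]
        exact ⟨hnb (hzT ho), isPGroup_of_sq (hTsq ho)⟩
    · exact ⟨hnb ⟨hzT (wt_ot 0), hzT (wt_ot 1)⟩, isPGroup_of_sq fun x hx => hTsq (wt_ot 0) x hx.1⟩
    · exact ⟨hnb (hzT ho), isPGroup_of_sq (hTsq ho)⟩
  · rintro O ⟨g, hg⟩
    exact ⟨g, hg⟩
  · rintro F₀ hne ⟨hpt, hcol⟩
    have hsq : ∀ x ∈ F₀, x * x = 1 := by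
      intro x hx
      by_cases h1 : x = 1
      · rw [h1, mul_one]
      · exact hptsq x (hpt x hx h1)
    have self : ∀ (L : Fin 5 → Subgroup G) (i : Fin 5) (g : G), cj g (L i) = F₀ → ∃ i : Fin 5, ∃ g : G, ∀ x : G,
        (∀ a ∈ F₀, x * a * x⁻¹ ∈ F₀) → ∀ a ∈ cj g (L i), x * a * x⁻¹ ∈ cj g (L i) := by
      intro L i g h
      refine ⟨i, g, ?_⟩
      rw [h]
      exact fun _ hx => hx
    rcases card_cases_of_sq hsq with hc | hc | hc | hc | hc
    · exact absurd (Subgroup.card_eq_one.1 hc) hne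
    · -- order 2
      obtain ⟨c, hc0, hc1⟩ := Subgroup.ne_bot_iff_exists_ne_one.1 hne |>.elim fun c hc =>
        (⟨c, c.2, fun h => hc (Subtype.ext h)⟩ : ∃ c ∈ F₀, c ≠ 1)
      obtain ⟨g, hg⟩ := hpt c hc0 hc1
      refine self _ 0 g ?_
      show cj g (Subgroup.zpowers z) = F₀
      apply Subgroup.eq_of_le_of_card_ge
      · rw [Subgroup.map_le_iff_le_comap, Subgroup.zpowers_le]
        show g * z * g⁻¹ ∈ F₀
        rw [hg]; exact hc0
      · rw [card_cj, hc, Nat.card_zpowers, orderOf_eq_prime (p := 2) (by rw [pow_two]; exact F.z_sq) hzne]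
    · -- order 4
      obtain ⟨c, hc0, x, hx, hc1, hx1, hxc⟩ := exists_two_elements (F₀ := F₀) (by omega)
      obtain ⟨k, hk1, hk2⟩ := pair_conj F (hpt c hc0 hc1) (hpt x hx hx1) (hcol c hc0 hc1 x hx) hxc
      refine self _ 1 k ?_
      show cj k (Subgroup.closure {z, y}) = F₀
      have hle : cj k (Subgroup.closure {z, y}) ≤ F₀ := by
        rw [Subgroup.map_le_iff_le_comap, Subgroup.closure_le]
        rintro w (rfl | rfl)
        · show k * w * k⁻¹ ∈ F₀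
          rw [hk1]; exact hc0
        · show k * w * k⁻¹ ∈ F₀
          rw [hk2]; exact hx
      apply Subgroup.eq_of_le_of_card_ge hle
      have h1 : Nat.card (cj k (Subgroup.closure {z, y})) ∣ 4 := by rw [← hc]; exact Subgroup.card_dvd_of_le hle
      have h2 : (({1, z, y} : Finset G) : Set G) ⊆ (Subgroup.closure ({z, y} : Set G) : Set G) := by
        intro w hw
        simp only [Finset.coe_insert, Finset.coe_singleton, Set.mem_insert_iff, Set.mem_singleton_iff] at hw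
        rcases hw with rfl | rfl | rfl
        · exact Subgroup.one_mem _
        · exact Subgroup.subset_closure (Or.inl rfl)
        · exact Subgroup.subset_closure (Or.inr rfl)
      have h3 := Set.ncard_le_ncard h2 (Set.toFinite _)
      have h4 : ({1, z, y} : Finset G).card = 3 := by
        rw [Finset.card_eq_three]
        exact ⟨1, z, y, hzne.symm, F.y_ne_one.symm, F.y_ne.symm, rfl⟩
      have h5 : (Subgroup.closure ({z, y} : Set G) : Set G).ncard = Nat.card (Subgroup.closure ({z, y} : Set G)) := rfl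
      rw [Set.ncard_coe_finset, h4, h5, ← card_cj k] at h3
      rw [hc]
      have h6 := Nat.le_of_dvd (by norm_num) h1
      generalize Nat.card (cj k (Subgroup.closure {z, y})) = n at h1 h3 h6
      interval_cases n
      · exact absurd h1 (by decide)
      · exact le_rfl
    · -- order 8
      obtain ⟨c, hc0, x, hx, hc1, hx1, hxc⟩ := exists_two_elements (F₀ := F₀) (by omega)
      obtain ⟨k, S⟩ := exists_conj_SF F hpt hcol hc0 hc1 hx hx1 hxc
      have hcS : Nat.card (cj k⁻¹ F₀) = 8 := by rw [card_cj, hc]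
      have h : ∃ F₀ : Subgroup G, SF Q z y F₀ ∧ Nat.card F₀ = 8 := ⟨_, S, hcS⟩
      obtain ⟨hS, hc'⟩ := h.choose_spec
      obtain ⟨m, hm⟩ := eight F hS S hc' hcS
      refine self _ 2 (k * m) ?_
      show cj (k * m) (L8 Q z y (T F.ch o)) = F₀
      unfold L8
      rw [dif_pos h, ← cj_cj, hm, cj_cj, mul_inv_cancel, cj_one]
    · -- order greater than 8
      rcases big ho F hE hex hpt hcol hc with ⟨g, hg⟩ | ⟨g, hg⟩
      · exact ⟨3, g, hg⟩
      · exact ⟨4, g, hg⟩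

end

end Cfsg.Agent.R2.H4.Mon.MainBTop
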